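import Mathlib
import Cfsg.Agent.AutAlt.Basic

/-! Automorphisms of a group with a subgroup `A₁₂`: the hypotheses (owner: helper58). -/

set_option autoImplicit false

namespace Cfsg.Agent.HNOut

abbrev A12 : Type := alternatingGroup (Fin 12)

/-- `x` fixes every point outside `S` -/
def Sup (S : Finset (Fin 12)) (x : A12) : Prop := ∀ i, i ∉ S → (x : Equiv.Perm (Fin 12)) i = i

structure Hyp {G : Type} [Group G] (ι : A12 →* G) : Prop where
  inj : Function.Injective ι
  fin : Finite G
  not49 : ¬ 49 ∣ Nat.card G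
  loc5 : ∀ S : Finset (Fin 12), S.card = 5 → ∀ c : G, (∀ x : A12, Sup S x → c * ι x = ι x * c) → c ∈ ι.range
  loc7 : ∀ y : A12, orderOf y = 7 → ∀ c : G, c * ι y = ι y * c → c ∈ ι.range

end Cfsg.Agent.HNOut
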