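import Cfsg.Agent.HNOut.RelC
import Cfsg.Agent.HNOut.Spec

/-! The outer automorphism of the Harada-Norton group (owner: helper58). -/

set_option autoImplicit false
set_option maxRecDepth 1000000

namespace Cfsg.Agent.HN

open MulAction Cfsg.Agent.CosetEnum Cfsg.Agent.KMat Cfsg.Spor

/-! ### the relations present the group -/

abbrev QN : Type := QG 13 iv RL

abbrev qn : ℕ → QN := qg 13 iv RL

theorem UQ : Univ qn 13 iv RL := univ_qg _ _ _

theorem card_QN : Finite QN ∧ Nat.card QN ≤ Nat.card Spor.HN := by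
  obtain ⟨h1, h2⟩ := index_H UQ.good UQ.top
  haveI := finite_QA
  have h3 : (th UQ.good).range = Cl qn 11 := by
    apply le_antisymm
    · rintro _ ⟨a, rfl⟩
      exact th_mem UQ.good a
    · show Cl qn 11 ≤ _
      conv_lhs => unfold Cl
      rw [Subgroup.closure_le]
      rintro _ ⟨x, hx, rfl⟩
      exact ⟨qa x, th_qa UQ.good hx⟩
  have h4 : Finite (Cl qn 11) := by
    rw [← h3]
    exact Set.finite_range _
  have h5 : Nat.card (Cl qn 11) ≤ 239500800 := by
    rw [← h3, ← card_QA]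
    exact Nat.card_le_card_of_surjective _ (th UQ.good).rangeRestrict_surjective
  have h6 : (Cl qn 11).index ≠ 0 := Subgroup.index_ne_zero_of_finite
  have h7 := (Cl qn 11).card_mul_index
  have h8 : Nat.card QN ≠ 0 := by
    rw [← h7]
    exact Nat.mul_ne_zero Nat.card_pos.ne' h6
  refine ⟨Nat.finite_of_card_ne_zero h8, ?_⟩
  rw [card_HN, ← h7]
  calc Nat.card (Cl qn 11) * (Cl qn 11).index ≤ 239500800 * 1140000 := Nat.mul_le_mul h5 h2
    _ = 273030912000000 := by norm_num

theorem exists_pr : ∃ π : QN →* Spor.HN, ∀ x, π (qn x) = gN x := UQ.univ _ _ gN_good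

noncomputable def prN : QN →* Spor.HN := exists_pr.choose

theorem prN_q (x : ℕ) : prN (qn x) = gN x := exists_pr.choose_spec x

theorem prN_bij : Function.Bijective prN := by
  haveI := card_QN.1
  have hs : Function.Surjective prN := by
    rw [← MonoidHom.range_eq_top, eq_top_iff, ← gN_top]
    conv_lhs => unfold Cl
    rw [Subgroup.closure_le]
    rintro _ ⟨x, hx, rfl⟩
    exact ⟨qn x, prN_q x⟩
  haveI := finite_HN
  exact (Function.Surjective.bijective_of_nat_card_le hs card_QN.2)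

noncomputable def eQN : QN ≃* Spor.HN := MulEquiv.ofBijective prN prN_bij

theorem eQN_q (x : ℕ) : eQN (qn x) = gN x := prN_q x

theorem UN : Univ gN 13 iv RL where
  good := gN_good
  top := gN_top
  univ H _ h hh := by
    obtain ⟨φ, hφ⟩ := UQ.univ H h hh
    refine ⟨φ.comp eQN.symm.toMonoidHom, fun x => ?_⟩
    show φ (eQN.symm (gN x)) = h x
    rw [← eQN_q, eQN.symm_apply_apply, hφ]

/-! ### the automorphism -/

/-- images of the letters -/
def dx : ℕ → List ℕ
  | 1 => [1] | 2 => [2] | 3 => [3] | 4 => [4] | 5 => [5] | 6 => [6] | 7 => [7] | 8 => [8]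
  | 9 => [3, 4, 9, 3, 4]
  | 10 => [3, 4, 10, 3, 4]
  | 11 => [3, 11, 3]
  | 12 => [12, 1]
  | 13 => [1, 13]
  | _ => []

noncomputable def gD (x : ℕ) : Spor.HN := wd gN (dx x)

theorem gD_word (u : List ℕ) : (u.map gD).prod = ev gN (u.flatMap dx) := (wd_flat gN dx u).symm

theorem gN_eq {u v : List ℕ} (h : eqB u v = true) : ev gN u = ev gN v := by
  have h1 := eqA h
  unfold eqB at h
  simp only [Bool.and_eq_true] at h
  obtain ⟨⟨hu, hv⟩, _⟩ := h
  rw [← th_word gN_good hu, ← th_word gN_good hv]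
  exact congrArg tN h1

theorem ckRA : RA.all (fun p => eqB ((expand p).flatMap dx) []) = true := by decide +kernel

theorem gD_self {x : ℕ} (h : dx x = [x]) : gD x = gN x := by
  rw [gD, h]
  simp [wd]

theorem gD_inv_self {x : ℕ} (h : dx x = [x]) (hx : ivL iv x = x) : gD (ivL iv x) = (gD x)⁻¹ := by
  rw [hx, gD_self h]
  have := gN_good.inv x
  rwa [hx] at this

theorem ev_append (u v : List ℕ) : ev gN (u ++ v) = ev gN u * ev gN v := by
  simp [ev]

theorem ev1 (x : ℕ) : ev gN [x] = gN x := by simp [ev]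

theorem u_conj {x : ℕ} (h1 : 1 ≤ x) (h2 : x ≤ 10) : gN 13 * gN x * gN 12 = ev gN (al1 x) := by
  have h3 := al_letter gN_good h1 h2
  have h4 : gN 13 = (gN 12)⁻¹ := gN_good.inv 12
  rw [h4, mul_assoc, h3, inv_mul_cancel_left]

/-- the remaining relations -/
theorem ckU : [([13, 1, 12, 1], 1), ([13, 2, 12, 3], 1), ([13, 3, 12, 2], 1), ([13, 4, 12, 8, 6, 4, 2, 3], 1), ([13, 5, 12, 5, 6, 7, 8, 6, 7, 6, 4, 5, 2, 3], 1), ([13, 6, 12, 7, 8, 6, 7, 4, 2, 3], 1), ([13, 7, 12, 8, 5, 6, 4, 5, 2, 3], 1), ([13, 8, 12, 6, 7, 8, 6, 7, 6, 4, 2, 3], 1)].all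
    (fun p : List ℕ × ℕ => eqB ([1] ++ al1 (p.1.getD 1 0) ++ [1] ++ (p.1.drop 3).flatMap dx) []) = true := by
  decide +kernel

theorem relU {x : ℕ} {r : List ℕ} (h1 : 1 ≤ x) (h2 : x ≤ 8) (h : eqB ([1] ++ al1 x ++ [1] ++ r.flatMap dx) [] = true) :
    (([13, x, 12] ++ r).map gD).prod = 1 := by
  rw [gD_word]
  have h3 := gN_eq h
  rw [List.flatMap_append]
  have h4 : ([13, x, 12] : List ℕ).flatMap dx = [1, 13, x, 12, 1] := by
    interval_cases x <;> rfl
  rw [h4, ev_append]
  have h5 : ev gN [1, 13, x, 12, 1] = ev gN ([1] ++ al1 x ++ [1]) := by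
    rw [ev_append, ev_append, ← u_conj h1 (by omega)]
    simp [ev, mul_assoc]
  rw [h5, ← ev_append, h3]
  simp [ev]

theorem ck9 : eqB ([1] ++ [3, 4, 9, 3, 4] ++ [1]) (al [3, 4, 9, 3, 4]) = true := by decide +kernel

theorem ck9' : eqB ([3, 4, 9, 3, 4] ++ [3, 4, 10, 3, 4]) [] = true := by decide +kernel

theorem goodD : Good gD 13 iv RL where
  inv x := by
    match x with
    | 0 => simp [gD, wd, dx, ivL, iv]
    | 1 => exact gD_inv_self rfl rfl
    | 2 => exact gD_inv_self rfl rfl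
    | 3 => exact gD_inv_self rfl rfl
    | 4 => exact gD_inv_self rfl rfl
    | 5 => exact gD_inv_self rfl rfl
    | 6 => exact gD_inv_self rfl rfl
    | 7 => exact gD_inv_self rfl rfl
    | 8 => exact gD_inv_self rfl rfl
    | 9 =>
      rw [eq_inv_iff_mul_eq_one]
      show gD 10 * gD 9 = 1
      have h := gN_eq (u := [3, 4, 10, 3, 4] ++ [3, 4, 9, 3, 4]) (v := []) (by decide +kernel)
      rw [ev_append] at h
      exact h
    | 10 =>
      rw [eq_inv_iff_mul_eq_one]
      show gD 9 * gD 10 = 1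
      have h := gN_eq (u := [3, 4, 9, 3, 4] ++ [3, 4, 10, 3, 4]) (v := []) (by decide +kernel)
      rw [ev_append] at h
      exact h
    | 11 =>
      rw [eq_inv_iff_mul_eq_one]
      show gD 11 * gD 11 = 1
      have h := gN_eq (u := [3, 11, 3] ++ [3, 11, 3]) (v := []) (by decide +kernel)
      rw [ev_append] at h
      exact h
    | 12 =>
      have h1 : gN 13 = (gN 12)⁻¹ := gN_good.inv 12
      have h2 : gN 1 = (gN 1)⁻¹ := gN_good.inv 1
      show gD 13 = (gD 12)⁻¹
      show wd gN [1, 13] = (wd gN [12, 1])⁻¹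
      simp only [wd, List.map_cons, List.map_nil, List.prod_cons, List.prod_nil, mul_one, mul_inv_rev, h1]
      rw [← h2]
    | 13 =>
      have h1 : gN 13 = (gN 12)⁻¹ := gN_good.inv 12
      have h2 : gN 1 = (gN 1)⁻¹ := gN_good.inv 1
      show gD 12 = (gD 13)⁻¹
      show wd gN [12, 1] = (wd gN [1, 13])⁻¹
      simp only [wd, List.map_cons, List.map_nil, List.prod_cons, List.prod_nil, mul_one, mul_inv_rev, h1, inv_inv]
      rw [← h2]
    | (n + 14) => simp [gD, wd, dx, ivL, iv]
  one x hx := by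
    match x with
    | 0 => simp [gD, wd, dx]
    | 1 | 2 | 3 | 4 | 5 | 6 | 7 | 8 | 9 | 10 | 11 | 12 | 13 => simp [isLet] at hx
    | (n + 14) => simp [gD, wd, dx]
  rel p hp := by
    have hsplit : p ∈ RA ∨ p ∈ [([12, 12, 6, 8], 1), ([13, 1, 12, 1], 1), ([13, 2, 12, 3], 1), ([13, 3, 12, 2], 1), ([13, 4, 12, 8, 6, 4, 2, 3], 1), ([13, 5, 12, 5, 6, 7, 8, 6, 7, 6, 4, 5, 2, 3], 1), ([13, 6, 12, 7, 8, 6, 7, 4, 2, 3], 1), ([13, 7, 12, 8, 5, 6, 4, 5, 2, 3], 1), ([13, 8, 12, 6, 7, 8, 6, 7, 6, 4, 2, 3], 1), ([12, 11, 4], 5), ([12, 9, 13, 10], 1)] := by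
      rw [← List.mem_append]
      exact hp
    rcases hsplit with h | h
    · rw [← prod_expand, gD_word, gN_eq ((List.all_eq_true.1 ckRA) p h)]
      rfl
    · simp only [List.mem_cons, List.not_mem_nil, or_false] at h
      rcases h with rfl | rfl | rfl | rfl | rfl | rfl | rfl | rfl | rfl | rfl | rfl
      · have h0 := gN_good.rel ([12, 12, 6, 8], 1) (by decide +kernel)
        have h1 := al_letter gN_good (x := 1) (by norm_num) (by norm_num)
        have h2 : gN 1 * gN 12 = gN 12 * gN 1 := by simpa [ev, al1] using h1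
        have h3 : gN 1 * gN 1 = 1 := by
          have h4 : gN 1 = (gN 1)⁻¹ := gN_good.inv 1
          rw [← eq_inv_iff_mul_eq_one]
          exact h4
        rw [pow_one] at h0 ⊢
        show gD 12 * (gD 12 * (gD 6 * (gD 8 * 1))) = 1
        have h5 : gD 12 = gN 12 * gN 1 := by simp [gD, wd, dx]
        have h6 : gD 6 = gN 6 := by simp [gD, wd, dx]
        have h7 : gD 8 = gN 8 := by simp [gD, wd, dx]
        have h0' : gN 12 * (gN 12 * (gN 6 * (gN 8 * 1))) = 1 := h0
        rw [h5, h6, h7]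
        refine Eq.trans ?_ h0'
        have : gN 12 * gN 1 * (gN 12 * gN 1 * (gN 6 * (gN 8 * 1))) =
            gN 12 * (gN 1 * gN 12) * gN 1 * (gN 6 * (gN 8 * 1)) := by group
        rw [this, h2]
        have : gN 12 * (gN 12 * gN 1) * gN 1 * (gN 6 * (gN 8 * 1)) =
            gN 12 * gN 12 * (gN 1 * gN 1) * (gN 6 * (gN 8 * 1)) := by group
        rw [this, h3]
        group
      · rw [pow_one]; exact relU (x := 1) (r := [1]) (by norm_num) (by norm_num) (by decide +kernel)
      · rw [pow_one]; exact relU (x := 2) (r := [3]) (by norm_num) (by norm_num) (by decide +kernel)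
      · rw [pow_one]; exact relU (x := 3) (r := [2]) (by norm_num) (by norm_num) (by decide +kernel)
      · rw [pow_one]; exact relU (x := 4) (r := [8, 6, 4, 2, 3]) (by norm_num) (by norm_num) (by decide +kernel)
      · rw [pow_one]; exact relU (x := 5) (r := [5, 6, 7, 8, 6, 7, 6, 4, 5, 2, 3]) (by norm_num) (by norm_num) (by decide +kernel)
      · rw [pow_one]; exact relU (x := 6) (r := [7, 8, 6, 7, 4, 2, 3]) (by norm_num) (by norm_num) (by decide +kernel)
      · rw [pow_one]; exact relU (x := 7) (r := [8, 5, 6, 4, 5, 2, 3]) (by norm_num) (by norm_num) (by decide +kernel)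
      · rw [pow_one]; exact relU (x := 8) (r := [6, 7, 8, 6, 7, 6, 4, 2, 3]) (by norm_num) (by norm_num) (by decide +kernel)
      · rw [← prod_expand, gD_word]
        exact rel6
      · -- `u v 9' v u⁻¹ 10'`
        have h1 := al_word gN_good (v := [3, 4, 9, 3, 4]) (by decide)
        have h2 := gN_eq ck9
        have h3 := gN_eq ck9'
        rw [ev_append] at h3
        have h4 : gN 13 = (gN 12)⁻¹ := gN_good.inv 12
        rw [pow_one]
        show gD 12 * (gD 9 * (gD 13 * (gD 10 * 1))) = 1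
        have e12 : gD 12 = gN 12 * gN 1 := by simp [gD, wd, dx]
        have e13 : gD 13 = gN 1 * gN 13 := by simp [gD, wd, dx]
        have e9 : gD 9 = ev gN [3, 4, 9, 3, 4] := rfl
        have e10 : gD 10 = ev gN [3, 4, 10, 3, 4] := rfl
        rw [e12, e13, e9, e10, mul_one, h4]
        rw [ev_append, ev_append, ev1] at h2
        have h5 : gN 12 * gN 1 * (ev gN [3, 4, 9, 3, 4] * (gN 1 * (gN 12)⁻¹ * ev gN [3, 4, 10, 3, 4])) =
            gN 12 * (gN 1 * ev gN [3, 4, 9, 3, 4] * gN 1) * (gN 12)⁻¹ * ev gN [3, 4, 10, 3, 4] := by group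
        rw [h5, h2, ← h1, mul_inv_cancel_right, h3]
        rfl

theorem exists_dl : ∃ δ : Spor.HN →* Spor.HN, ∀ x, δ (gN x) = gD x := UN.univ _ _ goodD

noncomputable def dlt : Spor.HN →* Spor.HN := exists_dl.choose

theorem dlt_g (x : ℕ) : dlt (gN x) = gD x := exists_dl.choose_spec x

theorem dlt_bij : Function.Bijective dlt := by
  haveI := finite_HN
  have hi : Function.Injective dlt := by
    haveI := simple_HN
    rcases (inferInstance : dlt.ker.Normal).eq_bot_or_eq_top with h | h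
    · exact (MonoidHom.ker_eq_bot_iff _).1 h
    · exfalso
      have h1 : ∀ x, gD x = 1 := by
        intro x
        rw [← dlt_g]
        have h2 : gN x ∈ dlt.ker := by rw [h]; exact Subgroup.mem_top _
        exact h2
      have h3 := h1 9
      have h4 := h1 3
      have h5 := h1 4
      have e9 : gD 9 = gN 3 * (gN 4 * (gN 9 * (gN 3 * gN 4))) := by simp [gD, wd, dx]
      have e3 : gD 3 = gN 3 := by simp [gD, wd, dx]
      have e4 : gD 4 = gN 4 := by simp [gD, wd, dx]
      rw [e3] at h4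
      rw [e4] at h5
      rw [e9, h4, h5] at h3
      exact t_ne (by simpa using h3)
  exact Finite.injective_iff_bijective.1 hi

noncomputable def delta : MulAut Spor.HN := MulEquiv.ofBijective dlt dlt_bij

theorem delta_g (x : ℕ) : delta (gN x) = gD x := dlt_g x

end Cfsg.Agent.HN
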