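import Cfsg.Agent.HNOut.Spec

/-!
# S2082 piece P1a (owner: helper32)

An automorphism of `G` maps, up to a conjugation, the alternating group of degree 5 on the last five points to
itself: these points are left by a 7-cycle, which generates a Sylow 7-subgroup.
-/

set_option autoImplicit false
set_option maxRecDepth 100000

namespace Cfsg.Agent.HNOut

/-- a 7-cycle -/
def s7 : Equiv.Perm (Fin 12) := List.formPerm [0, 1, 2, 3, 4, 5, 6]

theorem s7_sign : Equiv.Perm.sign s7 = 1 := by decide +kernel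

theorem s7_pow : s7 ^ 7 = 1 := by decide +kernel

theorem s7_zero : s7 0 ≠ 0 := by decide +kernel

theorem s7_fix : ∀ i : Fin 12, i ∈ ({7, 8, 9, 10, 11} : Finset (Fin 12)) → s7 i = i := by decide +kernel

theorem s7_orb : ∀ i : Fin 12, s7 i ≠ i → ∃ k : Fin 7, (s7 ^ (k : ℕ)) 0 = i := by decide +kernel

theorem s7_orb' : ∀ i : Fin 12, i ∉ ({7, 8, 9, 10, 11} : Finset (Fin 12)) → ∃ k : Fin 7, (s7 ^ (k : ℕ)) 0 = i := by
  decide +kernel

theorem s7_key : ∀ k : Fin 7, (s7 ^ ((k : ℕ) * 120)) 0 = 0 → k = 0 := by decide +kernel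

/-- the 7-cycle in the alternating group -/
def y7 : A12 := ⟨s7, Equiv.Perm.mem_alternatingGroup.2 s7_sign⟩

theorem y7_order : orderOf y7 = 7 := by
  haveI : Fact (Nat.Prime 7) := ⟨by norm_num⟩
  apply orderOf_eq_prime
  · exact Subtype.ext s7_pow
  · intro h
    have h1 := congrArg (fun z : A12 => (z : Equiv.Perm (Fin 12)) 0) h
    exact s7_zero h1

theorem comm_of_sup {x : A12} (hx : Sup {7, 8, 9, 10, 11} x) : x * y7 = y7 * x := by
  have h : Equiv.Perm.Disjoint (x : Equiv.Perm (Fin 12)) s7 := by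
    intro i
    by_cases hi : i ∈ ({7, 8, 9, 10, 11} : Finset (Fin 12))
    · exact Or.inr (s7_fix i hi)
    · exact Or.inl (hx i hi)
  exact Subtype.ext h.commute.eq

theorem pow_of_sup {x : A12} (hx : Sup {7, 8, 9, 10, 11} x) : x ^ 120 = 1 := by
  have h1 : ∀ i : Fin 12, (x : Equiv.Perm (Fin 12)) i ∈ ({7, 8, 9, 10, 11} : Finset (Fin 12)) ↔
      i ∈ ({7, 8, 9, 10, 11} : Finset (Fin 12)) := by
    intro i
    constructor
    · intro hi
      by_contra h
      rw [hx i h] at hi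
      exact h hi
    · intro hi
      by_contra h
      have h2 := hx _ h
      have h3 := (x : Equiv.Perm (Fin 12)).injective h2
      rw [h3] at h
      exact h hi
  have h2 : ∀ i : Fin 12, (x : Equiv.Perm (Fin 12)) i ≠ i → i ∈ ({7, 8, 9, 10, 11} : Finset (Fin 12)) := by
    intro i hi
    by_contra h
    exact hi (hx i h)
  have h3 := Equiv.Perm.ofSubtype_subtypePerm h1 h2
  have h4 : ((x : Equiv.Perm (Fin 12)).subtypePerm h1) ^ 120 = 1 := by
    have h5 : Fintype.card (Equiv.Perm {i : Fin 12 // i ∈ ({7, 8, 9, 10, 11} : Finset (Fin 12))}) = 120 := by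
      rw [Fintype.card_perm, Fintype.card_coe]
      decide
    rw [← h5]
    exact pow_card_eq_one
  apply Subtype.ext
  rw [SubgroupClass.coe_pow, ← h3, ← map_pow, h4, map_one]
  rfl

theorem sup_of_comm {y : A12} (hy : y * y7 = y7 * y) (h120 : y ^ 120 = 1) : Sup {7, 8, 9, 10, 11} y := by
  have hc : Commute (y : Equiv.Perm (Fin 12)) s7 := congrArg Subtype.val hy
  have hp : ∀ (n : ℕ) (i : Fin 12), (y : Equiv.Perm (Fin 12)) ((s7 ^ n) i) = (s7 ^ n) ((y : Equiv.Perm (Fin 12)) i) := by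
    intro n i
    have h1 : (y : Equiv.Perm (Fin 12)) * s7 ^ n = s7 ^ n * (y : Equiv.Perm (Fin 12)) := (hc.pow_right n).eq
    exact congrArg (fun z : Equiv.Perm (Fin 12) => z i) h1
  have h1 : s7 ((y : Equiv.Perm (Fin 12)) 0) ≠ (y : Equiv.Perm (Fin 12)) 0 := by
    intro h
    have h2 := hp 1 0
    rw [pow_one] at h2
    rw [h] at h2
    exact s7_zero ((y : Equiv.Perm (Fin 12)).injective h2)
  obtain ⟨k, hk⟩ := s7_orb _ h1
  have h2 : ∀ m : ℕ, ((y : Equiv.Perm (Fin 12)) ^ m) 0 = (s7 ^ ((k : ℕ) * m)) 0 := by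
    intro m
    induction m with
    | zero => rfl
    | succ m ih =>
      rw [pow_succ', Equiv.Perm.mul_apply, ih, hp, ← hk, ← Equiv.Perm.mul_apply, ← pow_add, Nat.mul_succ]
  have h3 := h2 120
  rw [show ((y : Equiv.Perm (Fin 12)) ^ 120) = 1 from congrArg Subtype.val h120] at h3
  have h4 : k = 0 := s7_key k h3.symm
  subst h4
  have h5 : (y : Equiv.Perm (Fin 12)) 0 = 0 := hk.symm
  intro i hi
  obtain ⟨n, hn⟩ := s7_orb' i hi
  rw [← hn, hp, h5]

/-- **P1a** -/
theorem exists_seven {G : Type} [Group G] {ι : A12 →* G} (h : Hyp ι) (α : MulAut G) :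
    ∃ g : G, ∀ x : A12, Sup {7, 8, 9, 10, 11} x →
      (∃ y : A12, Sup {7, 8, 9, 10, 11} y ∧ g * α (ι x) * g⁻¹ = ι y) ∧
      (∃ y : A12, Sup {7, 8, 9, 10, 11} y ∧ g * α (ι y) * g⁻¹ = ι x) := by
  haveI := h.fin
  haveI : Fact (Nat.Prime 7) := ⟨by norm_num⟩
  have ho : orderOf (ι y7) = 7 := by rw [orderOf_injective ι h.inj, y7_order]
  have ho' : orderOf (α (ι y7)) = 7 := by rw [MulEquiv.orderOf_eq α, ho]
  have hd : 7 ∣ Nat.card G := ho ▸ orderOf_dvd_natCard (ι y7)
  have hf : (Nat.card G).factorization 7 = 1 := by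
    have hne : Nat.card G ≠ 0 := Nat.card_pos.ne'
    apply le_antisymm
    · by_contra hlt
      have h2 : 2 ≤ (Nat.card G).factorization 7 := by omega
      exact h.not49 ((Nat.Prime.pow_dvd_iff_le_factorization (by norm_num : Nat.Prime 7) hne).2 h2)
    · exact (Nat.Prime.dvd_iff_one_le_factorization (by norm_num : Nat.Prime 7) hne).1 hd
  let P : Sylow 7 G := Sylow.ofCard (Subgroup.zpowers (ι y7)) (by rw [Nat.card_zpowers, ho, hf, pow_one])
  let P' : Sylow 7 G := Sylow.ofCard (Subgroup.zpowers (α (ι y7))) (by rw [Nat.card_zpowers, ho', hf, pow_one])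
  obtain ⟨g, hg⟩ := MulAction.exists_smul_eq G P' P
  set β : MulAut G := MulAut.conj g * α with hβ
  have hβa : ∀ c, β c = g * α c * g⁻¹ := fun c => rfl
  -- the image of the 7-cycle
  have h1 : β (ι y7) ∈ Subgroup.zpowers (ι y7) := by
    have h2 : g * α (ι y7) * g⁻¹ ∈ (g • P' : Sylow 7 G) := by
      rw [Sylow.smul_def, ← SetLike.mem_coe]
      exact Set.mem_smul_set.2 ⟨α (ι y7), Subgroup.mem_zpowers _, rfl⟩
    rw [hg] at h2
    exact h2
  have h2 : ι y7 ∈ Subgroup.zpowers (β (ι y7)) := by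
    have h3 : Subgroup.zpowers (β (ι y7)) = Subgroup.zpowers (ι y7) := by
      apply Subgroup.eq_of_le_of_card_ge
      · rwa [Subgroup.zpowers_le]
      · rw [Nat.card_zpowers, Nat.card_zpowers, MulEquiv.orderOf_eq β]
    rw [h3]
    exact Subgroup.mem_zpowers _
  obtain ⟨k, hk⟩ := Subgroup.mem_zpowers_iff.1 h1
  obtain ⟨l, hl⟩ := Subgroup.mem_zpowers_iff.1 h2
  refine ⟨g, fun x hx => ⟨?_, ?_⟩⟩
  · have h3 : Commute (ι x) (ι y7) := by
      show ι x * ι y7 = ι y7 * ι x
      rw [← map_mul, ← map_mul, comm_of_sup hx]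
    have h4 : Commute (β (ι x)) (β (ι y7)) := h3.map (β : G →* G)
    have h5 : Commute (β (ι x)) (ι y7) := by
      rw [← hl]
      exact h4.zpow_right l
    obtain ⟨y, hy⟩ := h.loc7 y7 y7_order _ h5.eq
    refine ⟨y, sup_of_comm ?_ ?_, hy.symm⟩
    · apply h.inj
      rw [map_mul, map_mul, hy]
      exact h5.eq
    · apply h.inj
      rw [map_pow, hy, ← map_pow, ← map_pow, pow_of_sup hx, map_one, map_one]
  · have h3 : Commute (ι x) (β (ι y7)) := by
      have h4 : Commute (ι x) (ι y7) := by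
        show ι x * ι y7 = ι y7 * ι x
        rw [← map_mul, ← map_mul, comm_of_sup hx]
      rw [← hk]
      exact h4.zpow_right k
    have h4 : Commute (β.symm (ι x)) (ι y7) := by
      have h5 := h3.map (β.symm : G →* G)
      have h6 : (β.symm : G →* G) (β (ι y7)) = ι y7 := β.symm_apply_apply _
      rw [h6] at h5
      exact h5
    obtain ⟨y, hy⟩ := h.loc7 y7 y7_order _ h4.eq
    refine ⟨y, sup_of_comm ?_ ?_, ?_⟩
    · apply h.inj
      rw [map_mul, map_mul, hy]
      exact h4.eq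
    · apply h.inj
      rw [map_pow, hy, ← map_pow, ← map_pow, pow_of_sup hx, map_one, map_one]
    · rw [hy, ← hβa]
      exact β.apply_symm_apply _

end Cfsg.Agent.HNOut
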