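import Cfsg.Agent.HNOut.Spec

/-! The action on `A₇` (owner: helper58). -/

set_option autoImplicit false

namespace Cfsg.Agent.HNOut

/-- the alternating group of a set of points -/
def jA (A : Finset (Fin 12)) : alternatingGroup {i : Fin 12 // i ∈ A} →* A12 where
  toFun σ := ⟨Equiv.Perm.ofSubtype (σ : Equiv.Perm {i : Fin 12 // i ∈ A}), by
    rw [Equiv.Perm.mem_alternatingGroup, Equiv.Perm.sign_ofSubtype]
    exact σ.2⟩
  map_one' := by
    apply Subtype.ext
    simp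
  map_mul' σ τ := by
    apply Subtype.ext
    simp

theorem jA_coe {A : Finset (Fin 12)} (σ : alternatingGroup {i : Fin 12 // i ∈ A}) :
    (jA A σ : Equiv.Perm (Fin 12)) = Equiv.Perm.ofSubtype (σ : Equiv.Perm {i : Fin 12 // i ∈ A}) := rfl

theorem jA_inj {A : Finset (Fin 12)} : Function.Injective (jA A) := by
  intro σ τ h
  apply Subtype.ext
  apply Equiv.Perm.ofSubtype_injective
  exact congrArg Subtype.val h

theorem Sup_jA {A : Finset (Fin 12)} (σ : alternatingGroup {i : Fin 12 // i ∈ A}) : Sup A (jA A σ) := by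
  intro i hi
  rw [jA_coe]
  exact Equiv.Perm.ofSubtype_apply_of_not_mem _ hi

theorem exists_jA {A : Finset (Fin 12)} {x : A12} (hx : Sup A x) : ∃ σ, jA A σ = x := by
  have h1 : ∀ i, (x : Equiv.Perm (Fin 12)) i ∈ A ↔ i ∈ A := by
    intro i
    constructor
    · intro h
      by_contra hi
      rw [hx i hi] at h
      exact hi h
    · intro h
      by_contra hi
      have h2 := hx _ hi
      have h3 := (x : Equiv.Perm (Fin 12)).injective h2
      rw [h3] at hi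
      exact hi h
  have h2 : ∀ i, (x : Equiv.Perm (Fin 12)) i ≠ i → i ∈ A := by
    intro i hi
    by_contra h
    exact hi (hx i h)
  have h3 := Equiv.Perm.ofSubtype_subtypePerm h1 h2
  refine ⟨⟨Equiv.Perm.subtypePerm (x : Equiv.Perm (Fin 12)) h1, ?_⟩, Subtype.ext h3⟩
  rw [Equiv.Perm.mem_alternatingGroup, ← Equiv.Perm.sign_ofSubtype, h3]
  exact x.2

theorem Sup_comm {A B : Finset (Fin 12)} (h : Disjoint A B) {x y : A12} (hx : Sup A x) (hy : Sup B y) : x * y = y * x := by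
  apply Subtype.ext
  apply Equiv.Perm.Disjoint.commute
  intro i
  by_cases hi : i ∈ A
  · right
    exact hy i (fun h' => (Finset.disjoint_left.1 h) hi h')
  · left
    exact hx i hi

/-- three-cycles on `B` -/
def cyc3 (a b c : Fin 12) : Equiv.Perm (Fin 12) := Equiv.swap a b * Equiv.swap b c

theorem cyc3_mem {a b c : Fin 12} (ab : a ≠ b) (bc : b ≠ c) : cyc3 a b c ∈ alternatingGroup (Fin 12) := by
  rw [Equiv.Perm.mem_alternatingGroup, cyc3, map_mul, Equiv.Perm.sign_swap ab, Equiv.Perm.sign_swap bc]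
  decide

theorem fix_of_comm {y : A12} (hy : ∀ z : A12, Sup {7, 8, 9, 10, 11} z → y * z = z * y) : Sup {0, 1, 2, 3, 4, 5, 6} y := by
  intro i hi
  have hB : i ∈ ({7, 8, 9, 10, 11} : Finset (Fin 12)) := by
    revert i; decide
  have key : ∀ a b c : Fin 12, a ∈ ({7, 8, 9, 10, 11} : Finset (Fin 12)) → b ∈ ({7, 8, 9, 10, 11} : Finset (Fin 12)) →
      c ∈ ({7, 8, 9, 10, 11} : Finset (Fin 12)) → a ≠ b → b ≠ c → a ≠ c → ∀ k, (y : Equiv.Perm (Fin 12)) (cyc3 a b c k) =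
        cyc3 a b c ((y : Equiv.Perm (Fin 12)) k) := by
    intro a b c ha hb hc ab bc ac k
    have h1 := hy ⟨cyc3 a b c, cyc3_mem ab bc⟩ (by
      intro j hj
      have ja : j ≠ a := fun h => hj (h ▸ ha)
      have jb : j ≠ b := fun h => hj (h ▸ hb)
      have jc : j ≠ c := fun h => hj (h ▸ hc)
      show (Equiv.swap a b * Equiv.swap b c) j = j
      rw [Equiv.Perm.mul_apply, Equiv.swap_apply_of_ne_of_ne jb jc, Equiv.swap_apply_of_ne_of_ne ja jb])
    have h2 : (y : Equiv.Perm (Fin 12)) * cyc3 a b c = cyc3 a b c * y := congrArg Subtype.val h1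
    have h3 := congrArg (fun σ : Equiv.Perm (Fin 12) => σ k) h2
    simpa only [Equiv.Perm.mul_apply] using h3
  by_contra hne
  set j := (y : Equiv.Perm (Fin 12)) i with hj
  by_cases hjB : j ∈ ({7, 8, 9, 10, 11} : Finset (Fin 12))
  · -- a three-cycle fixing `i`, moving `j`
    have h1 : ∀ i j : Fin 12, i ∈ ({7, 8, 9, 10, 11} : Finset (Fin 12)) → j ∈ ({7, 8, 9, 10, 11} : Finset (Fin 12)) → j ≠ i →
        ∃ b c, b ∈ ({7, 8, 9, 10, 11} : Finset (Fin 12)) ∧ c ∈ ({7, 8, 9, 10, 11} : Finset (Fin 12)) ∧ j ≠ b ∧ b ≠ c ∧ j ≠ c ∧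
          cyc3 j b c i = i ∧ cyc3 j b c j ≠ j := by decide +kernel
    obtain ⟨b, c, hb, hc, h2, h3, h4, h5, h6⟩ := h1 i j hB hjB hne
    have h7 := key j b c hjB hb hc h2 h3 h4 i
    rw [h5, ← hj] at h7
    exact h6 h7.symm
  · have h1 : ∀ i j : Fin 12, i ∈ ({7, 8, 9, 10, 11} : Finset (Fin 12)) → j ∉ ({7, 8, 9, 10, 11} : Finset (Fin 12)) →
        ∃ b c, b ∈ ({7, 8, 9, 10, 11} : Finset (Fin 12)) ∧ c ∈ ({7, 8, 9, 10, 11} : Finset (Fin 12)) ∧ i ≠ b ∧ b ≠ c ∧ i ≠ c ∧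
          cyc3 i b c i ≠ i ∧ cyc3 i b c j = j := by decide +kernel
    obtain ⟨b, c, hb, hc, h2, h3, h4, h5, h6⟩ := h1 i j hB hjB
    have h7 := key i b c hB hb hc h2 h3 h4 i
    rw [← hj, h6] at h7
    exact h5 ((y : Equiv.Perm (Fin 12)).injective h7)

theorem disj : Disjoint ({0, 1, 2, 3, 4, 5, 6} : Finset (Fin 12)) {7, 8, 9, 10, 11} := by decide

theorem seven_part {G : Type} [Group G] {ι : A12 →* G} (h : Hyp ι) (β : MulAut G)
    (hβ : ∀ x, Sup {7, 8, 9, 10, 11} x → (∃ y, Sup {7, 8, 9, 10, 11} y ∧ β (ι x) = ι y) ∧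
      (∃ y, Sup {7, 8, 9, 10, 11} y ∧ β (ι y) = ι x)) :
    (∀ x, Sup {0, 1, 2, 3, 4, 5, 6} x → β (ι x) ∈ ι.range) ∧ ∃ S : Finset (Fin 12), S.card = 5 ∧
      ∀ y, Sup S y → ∃ x, Sup {0, 1, 2, 3, 4} x ∧ β (ι x) = ι y := by
  have h1 : ∀ x, Sup {0, 1, 2, 3, 4, 5, 6} x → ∃ y, Sup {0, 1, 2, 3, 4, 5, 6} y ∧ β (ι x) = ι y := by
    intro x hx
    have h2 : ∀ z : A12, Sup {7, 8, 9, 10, 11} z → β (ι x) * ι z = ι z * β (ι x) := by
      intro z hz
      obtain ⟨z', hz', h3⟩ := (hβ z hz).2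
      rw [← h3, ← map_mul, ← map_mul, ← map_mul, ← map_mul, Sup_comm disj hx hz']
    obtain ⟨y, hy⟩ := h.loc5 {7, 8, 9, 10, 11} (by decide) _ h2
    refine ⟨y, fix_of_comm fun z hz => ?_, hy.symm⟩
    apply h.inj
    rw [map_mul, map_mul, hy, h2 z hz]
  refine ⟨fun x hx => ?_, ?_⟩
  · obtain ⟨y, _, hy⟩ := h1 x hx
    exact ⟨y, hy.symm⟩
  · let A : Finset (Fin 12) := {0, 1, 2, 3, 4, 5, 6}
    let κ : alternatingGroup {i : Fin 12 // i ∈ A} →* G := ι.comp (jA A)
    have hκ : Function.Injective κ := h.inj.comp jA_inj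
    have h2 : ∀ σ : alternatingGroup {i : Fin 12 // i ∈ A}, (β.toMonoidHom.comp κ) σ ∈ κ.range := by
      intro σ
      obtain ⟨y, hy, h3⟩ := h1 (jA A σ) (Sup_jA σ)
      obtain ⟨τ, hτ⟩ := exists_jA hy
      refine ⟨τ, ?_⟩
      show ι (jA A τ) = β (ι (jA A σ))
      rw [hτ, h3]
    let ψ : alternatingGroup {i : Fin 12 // i ∈ A} →* alternatingGroup {i : Fin 12 // i ∈ A} :=
      (MonoidHom.ofInjective hκ).symm.toMonoidHom.comp ((β.toMonoidHom.comp κ).codRestrict κ.range h2)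
    have hψ : ∀ σ, κ (ψ σ) = β (κ σ) := by
      intro σ
      have h3 : MonoidHom.ofInjective hκ (ψ σ) = (β.toMonoidHom.comp κ).codRestrict κ.range h2 σ :=
        (MonoidHom.ofInjective hκ).apply_symm_apply _
      exact congrArg Subtype.val h3
    have hψi : Function.Injective ψ := by
      intro σ τ hστ
      apply hκ
      apply β.injective
      rw [← hψ, ← hψ, hστ]
    have hψb : Function.Bijective ψ := Finite.injective_iff_bijective.1 hψi
    have hc : Fintype.card {i : Fin 12 // i ∈ A} = 7 := by decide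
    obtain ⟨τ7, hτ7⟩ := (AutAlt.conjNormal_bijective (α := {i : Fin 12 // i ∈ A}) (by rw [hc]; norm_num)
      (by rw [hc]; norm_num)).2 (MulEquiv.ofBijective ψ hψb)
    have hτ : ∀ σ, ψ σ = MulAut.conjNormal τ7 σ := by
      intro σ
      rw [hτ7]
      rfl
    set τ : Equiv.Perm (Fin 12) := Equiv.Perm.ofSubtype τ7 with hτd
    have hj : ∀ σ, (jA A (MulAut.conjNormal τ7 σ) : Equiv.Perm (Fin 12)) = τ * (jA A σ : Equiv.Perm (Fin 12)) * τ⁻¹ := by
      intro σ
      rw [jA_coe, jA_coe, MulAut.conjNormal_apply, map_mul, map_mul, map_inv]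
    have hA : ∀ i, τ i ∈ A ↔ i ∈ A := by
      intro i
      by_cases hi : i ∈ A
      · refine ⟨fun _ => hi, fun _ => ?_⟩
        rw [hτd, Equiv.Perm.ofSubtype_apply_of_mem _ hi]
        exact (τ7 ⟨i, hi⟩).2
      · rw [hτd, Equiv.Perm.ofSubtype_apply_of_not_mem _ hi]
    refine ⟨({0, 1, 2, 3, 4} : Finset (Fin 12)).image τ, ?_, ?_⟩
    · rw [Finset.card_image_of_injective _ τ.injective]
      decide
    · intro y hy
      have hyA : Sup A y := by
        intro i hi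
        apply hy
        intro h4
        obtain ⟨k, hk, h5⟩ := Finset.mem_image.1 h4
        apply hi
        rw [← h5, hA]
        have : ∀ k : Fin 12, k ∈ ({0, 1, 2, 3, 4} : Finset (Fin 12)) → k ∈ ({0, 1, 2, 3, 4, 5, 6} : Finset (Fin 12)) := by decide
        exact this k hk
      obtain ⟨σ, hσ⟩ := exists_jA hyA
      obtain ⟨ρ, hρ⟩ := (MulAut.conjNormal τ7).surjective σ
      refine ⟨jA A ρ, ?_, ?_⟩
      · intro i hi
        have h5 : (jA A σ : Equiv.Perm (Fin 12)) = τ * (jA A ρ : Equiv.Perm (Fin 12)) * τ⁻¹ := by rw [← hρ, hj]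
        have h6 : (jA A ρ : Equiv.Perm (Fin 12)) = τ⁻¹ * (y : Equiv.Perm (Fin 12)) * τ := by
          rw [← hσ, h5]; group
        rw [h6, Equiv.Perm.mul_apply, Equiv.Perm.mul_apply, Equiv.Perm.inv_eq_iff_eq]
        apply hy
        intro h7
        obtain ⟨k, hk, h8⟩ := Finset.mem_image.1 h7
        exact hi (τ.injective h8 ▸ hk)
      · have h5 := hψ ρ
        rw [hτ, hρ] at h5
        have h6 : ι (jA A σ) = β (ι (jA A ρ)) := h5
        rw [← h6, hσ]

end Cfsg.Agent.HNOut
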