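import Cfsg.Agent.HNOut.P1b

set_option autoImplicit false

namespace Cfsg.Agent.HNOut

theorem cyc_Sup_mk {A : Finset (Fin 12)} {a b c : Fin 12} (ha : a ∈ A) (hb : b ∈ A) (hc : c ∈ A) (ab : a ≠ b) (bc : b ≠ c) :
    Sup A ⟨cyc3 a b c, cyc3_mem ab bc⟩ := by
  intro j hj
  have ja : j ≠ a := fun h => hj (h ▸ ha)
  have jb : j ≠ b := fun h => hj (h ▸ hb)
  have jc : j ≠ c := fun h => hj (h ▸ hc)
  show (Equiv.swap a b * Equiv.swap b c) j = j
  rw [Equiv.Perm.mul_apply, Equiv.swap_apply_of_ne_of_ne jb jc, Equiv.swap_apply_of_ne_of_ne ja jb]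

theorem tau_mk {G : Type} [Group G] {ι : A12 →* G} (h : Hyp ι) (β : MulAut G)
    (h7 : ∀ x, Sup {0, 1, 2, 3, 4, 5, 6} x → β (ι x) ∈ ι.range) (S : Finset (Fin 12)) (hS : S.card = 5)
    (h5 : ∀ y, Sup S y → ∃ x, Sup {0, 1, 2, 3, 4} x ∧ β (ι x) = ι y) :
    ∃ τ : Equiv.Perm (Fin 12), ∀ x : A12, β (ι x) = ι (MulAut.conjNormal τ x) := by
  have h8 : ∀ x, Sup {5, 6, 7, 8, 9, 10, 11} x → β (ι x) ∈ ι.range := by
    intro x hx
    apply h.loc5 S hS
    intro y hy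
    obtain ⟨z, hz, h9⟩ := h5 y hy
    have hd : Disjoint ({5, 6, 7, 8, 9, 10, 11} : Finset (Fin 12)) {0, 1, 2, 3, 4} := by decide
    rw [← h9, ← map_mul, ← map_mul, ← map_mul, ← map_mul, Sup_comm hd hx hz]
  let K : Subgroup A12 := (ι.range.comap β.toMonoidHom).comap ι
  have hK : ∀ x, x ∈ K ↔ β (ι x) ∈ ι.range := fun x => Iff.rfl
  have hle : alternatingGroup (Fin 12) ≤ K.map (alternatingGroup (Fin 12)).subtype := by
    apply AutAlt.alternating_le_of_cyc_mem (p := 5) (q := 6) (by decide)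
    intro i h1 h2
    have h56 : (5 : Fin 12) ≠ 6 := by decide
    refine ⟨⟨cyc3 5 6 i, cyc3_mem h56 h2⟩, ?_, rfl⟩
    show _ ∈ K
    rw [hK]
    by_cases hi : i ∈ ({0, 1, 2, 3, 4, 5, 6} : Finset (Fin 12))
    · exact h7 _ (cyc_Sup_mk (by decide) (by decide) hi h56 h2)
    · refine h8 _ (cyc_Sup_mk (by decide) (by decide) ?_ h56 h2)
      revert i; decide
  have hall : ∀ x, β (ι x) ∈ ι.range := by
    intro x
    obtain ⟨y, hy, h9⟩ := hle x.2
    have h10 : y = x := Subtype.ext h9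
    rw [← h10]
    exact hy
  let ψ : A12 →* A12 :=
    (MonoidHom.ofInjective h.inj).symm.toMonoidHom.comp ((β.toMonoidHom.comp ι).codRestrict ι.range hall)
  have hψ : ∀ σ, ι (ψ σ) = β (ι σ) := by
    intro σ
    have h3 : MonoidHom.ofInjective h.inj (ψ σ) = (β.toMonoidHom.comp ι).codRestrict ι.range hall σ :=
      (MonoidHom.ofInjective h.inj).apply_symm_apply _
    exact congrArg Subtype.val h3
  have hψi : Function.Injective ψ := by
    intro σ τ hστ
    apply h.inj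
    apply β.injective
    rw [← hψ, ← hψ, hστ]
  have hψb : Function.Bijective ψ := Finite.injective_iff_bijective.1 hψi
  obtain ⟨τ, hτ⟩ := (AutAlt.conjNormal_bijective (α := Fin 12) (by rw [Fintype.card_fin]; norm_num)
    (by rw [Fintype.card_fin]; norm_num)).2 (MulEquiv.ofBijective ψ hψb)
  refine ⟨τ, fun x => ?_⟩
  rw [hτ, ← hψ]
  rfl

end Cfsg.Agent.HNOut
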