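import Cfsg.Agent.HNOut.Spec

/-!
# S2082 piece P2 (owner: helper41)
-/

set_option autoImplicit false

namespace Cfsg.Agent.HNOut

/-- an automorphism that fixes `A₁₂` elementwise is trivial -/
theorem P2_fix {G : Type} [Group G] {ι : A12 →* G} (h : Hyp ι)
    (u : G) (hu : ι.range ⊔ Subgroup.zpowers u = ⊤)
    (K : Subgroup A12) (S : Finset (Fin 12)) (hS : S.card = 5) (hSK : ∀ x, Sup S x → x ∈ K)
    (hK : ∀ x ∈ K, u⁻¹ * ι x * u ∈ ι.range) (hC : ∀ c : A12, (∀ x ∈ K, c * x = x * c) → c = 1)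
    (γ : MulAut G) (hγ : ∀ x, γ (ι x) = ι x) : γ = 1 := by
  have hcomm : ∀ x ∈ K, (γ u * u⁻¹) * ι x = ι x * (γ u * u⁻¹) := by
    intro x hx
    obtain ⟨x', hx'⟩ := hK x hx
    have h1 : γ (ι x') = ι x' := hγ x'
    rw [hx', map_mul, map_mul, map_inv, hγ x] at h1
    -- (γ u)⁻¹ ιx (γ u) = u⁻¹ ιx u
    have h2 : ι x = γ u * (u⁻¹ * ι x * u) * (γ u)⁻¹ := by rw [← h1]; group
    calc (γ u * u⁻¹) * ι x = γ u * (u⁻¹ * ι x * u) * (γ u)⁻¹ * (γ u * u⁻¹) := by group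
      _ = ι x * (γ u * u⁻¹) := by rw [← h2]
  obtain ⟨c, hc⟩ := h.loc5 S hS (γ u * u⁻¹) (fun x hx => hcomm x (hSK x hx))
  have hc1 : c = 1 := by
    apply hC
    intro x hx
    apply h.inj
    rw [map_mul, map_mul, hc]
    exact hcomm x hx
  have hγu : γ u = u := by
    rw [hc1, map_one] at hc
    exact mul_inv_eq_one.1 hc.symm
  have hle : ι.range ⊔ Subgroup.zpowers u ≤ (γ.toMonoidHom.eqLocus (MonoidHom.id G)) := by
    rw [sup_le_iff, Subgroup.zpowers_le]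
    constructor
    · rintro _ ⟨x, rfl⟩
      exact hγ x
    · exact hγu
  rw [hu] at hle
  ext x
  exact hle (Subgroup.mem_top x)

theorem P2_even {G : Type} [Group G] {ι : A12 →* G}
    (hfix : ∀ γ : MulAut G, (∀ x, γ (ι x) = ι x) → γ = 1)
    (α : MulAut G) (g : G) (τ : Equiv.Perm (Fin 12)) (hτ : Equiv.Perm.sign τ = 1)
    (hα : ∀ x : A12, g * α (ι x) * g⁻¹ = ι (MulAut.conjNormal τ x)) :
    α ∈ (MulAut.conj : G →* MulAut G).range := by
  obtain ⟨t, ht⟩ : ∃ t : A12, (t : Equiv.Perm (Fin 12)) = τ := ⟨⟨τ, hτ⟩, rfl⟩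
  have h1 : ∀ x : A12, MulAut.conjNormal τ x = t * x * t⁻¹ := by
    intro x
    apply Subtype.ext
    rw [MulAut.conjNormal_apply, ← ht]
    rfl
  have h2 : MulAut.conj ((ι t)⁻¹ * g) * α = 1 := by
    apply hfix
    intro x
    rw [MulAut.mul_apply, MulAut.conj_apply]
    have h3 : (ι t)⁻¹ * g * α (ι x) * ((ι t)⁻¹ * g)⁻¹ = (ι t)⁻¹ * (g * α (ι x) * g⁻¹) * ι t := by group
    rw [h3, hα x, h1 x, map_mul, map_mul, map_inv]
    group
  refine ⟨((ι t)⁻¹ * g)⁻¹, ?_⟩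
  rw [map_inv]
  exact (eq_inv_of_mul_eq_one_right h2).symm

theorem index_inn {G : Type} [Group G] {ι : A12 →* G} (h : Hyp ι)
    (ht : ∀ α : MulAut G, ∃ (g : G) (τ : Equiv.Perm (Fin 12)), ∀ x : A12,
      g * α (ι x) * g⁻¹ = ι (MulAut.conjNormal τ x))
    (u : G) (hu : ι.range ⊔ Subgroup.zpowers u = ⊤)
    (K : Subgroup A12) (S : Finset (Fin 12)) (hS : S.card = 5) (hSK : ∀ x, Sup S x → x ∈ K)
    (hK : ∀ x ∈ K, u⁻¹ * ι x * u ∈ ι.range) (hC : ∀ c : A12, (∀ x ∈ K, c * x = x * c) → c = 1)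
    (δ : MulAut G) (τ0 : Equiv.Perm (Fin 12)) (hs : Equiv.Perm.sign τ0 = -1)
    (hδ : ∀ x, δ (ι x) = ι (MulAut.conjNormal τ0 x)) (y : A12) (hy : orderOf y = 7)
    (hyτ : MulAut.conjNormal τ0 y = y) : (MulAut.conj : G →* MulAut G).range.index = 2 := by
  have hfix : ∀ γ : MulAut G, (∀ x, γ (ι x) = ι x) → γ = 1 :=
    fun γ hγ => P2_fix h u hu K S hS hSK hK hC γ hγ
  -- δ is not inner
  have hδn : δ ∉ (MulAut.conj : G →* MulAut G).range := by
    rintro ⟨g, hg⟩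
    have h1 : ∀ x, g * ι x * g⁻¹ = ι (MulAut.conjNormal τ0 x) := by
      intro x
      rw [← hδ x, ← hg, MulAut.conj_apply]
    have h2 : g * ι y = ι y * g := by
      have h3 := h1 y
      rw [hyτ] at h3
      exact mul_inv_eq_iff_eq_mul.1 h3
    obtain ⟨k, hk⟩ := h.loc7 y hy g h2
    have h4 : ∀ x : A12, MulAut.conjNormal (k : Equiv.Perm (Fin 12)) x = MulAut.conjNormal τ0 x := by
      intro x
      apply h.inj
      rw [← h1 x, ← hk, ← map_inv, ← map_mul, ← map_mul]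
      congr 1
    have h5 : (MulAut.conjNormal (k : Equiv.Perm (Fin 12)) : MulAut A12) = MulAut.conjNormal τ0 :=
      MulEquiv.ext h4
    have h6 : (k : Equiv.Perm (Fin 12)) = τ0 := Cfsg.Agent.AutAlt.conjNormal_injective (by simp) h5
    have h7 : Equiv.Perm.sign (k : Equiv.Perm (Fin 12)) = 1 := k.2
    rw [h6, hs] at h7
    exact absurd h7 (by decide)
  rw [Subgroup.index_eq_two_iff]
  refine ⟨δ, fun b => ?_⟩
  by_cases hb : b ∈ (MulAut.conj : G →* MulAut G).range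
  · right
    refine ⟨hb, fun hbd => hδn ?_⟩
    have := mul_mem (inv_mem hb) hbd
    rwa [inv_mul_cancel_left] at this
  · left
    refine ⟨?_, hb⟩
    obtain ⟨g, τ, hg⟩ := ht b
    have hτ : Equiv.Perm.sign τ = -1 := by
      rcases Int.units_eq_one_or (Equiv.Perm.sign τ) with h1 | h1
      · exact absurd (P2_even hfix b g τ h1 hg) hb
      · exact h1
    apply P2_even hfix (b * δ) g (τ * τ0)
    · rw [map_mul, hτ, hs]; decide
    · intro x
      rw [MulAut.mul_apply, hδ x, hg, map_mul, MulAut.mul_apply]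

end Cfsg.Agent.HNOut
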