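import Cfsg.Agent.HNOut.Kay
import Cfsg.Agent.HNOut.P2
import Cfsg.Agent.HNOut.P1a
import Cfsg.Agent.HNOut.P1b
import Cfsg.Agent.HNOut.P1d
import Cfsg.Prelude.Def_KGroupFacts

/-! The outer automorphism group of the Harada-Norton group (owner: helper58). -/

set_option autoImplicit false
set_option maxRecDepth 1000000

namespace Cfsg.Agent.HNOut

theorem exists_tau {G : Type} [Group G] {ι : A12 →* G} (h : Hyp ι) (α : MulAut G) :
    ∃ (g : G) (τ : Equiv.Perm (Fin 12)), ∀ x : A12, g * α (ι x) * g⁻¹ = ι (MulAut.conjNormal τ x) := by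
  obtain ⟨g, hg⟩ := exists_seven h α
  have hβ : ∀ y, (MulAut.conj g * α) y = g * α y * g⁻¹ := by
    intro y
    rw [MulAut.mul_apply, MulAut.conj_apply]
  obtain ⟨h7, S, hS, h5⟩ := seven_part h (MulAut.conj g * α) (by
    intro x hx
    simp only [hβ]
    exact hg x hx)
  obtain ⟨τ, hτ⟩ := tau_mk h (MulAut.conj g * α) h7 S hS h5
  refine ⟨g, τ, fun x => ?_⟩
  rw [← hβ, hτ]

theorem out_HN : Nat.card (Cfsg.Out Spor.HN) = 2 := by
  have h := index_inn HN.hyp (exists_tau HN.hyp) (HN.gN 12) HN.top_eq HN.KK HN.S5 HN.card_S5 HN.Sup_KK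
    (fun x hx => HN.mem_KK.1 hx) HN.cen_KK HN.delta HN.t05 HN.sign_t HN.delta_iota HN.y7A HN.y7_ord HN.y7_t
  exact h

end Cfsg.Agent.HNOut
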