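import Cfsg.Agent.HNOut.Delta

/-! The subgroup `A₁₂` of the Harada-Norton group, as even permutations (owner: helper58). -/

set_option autoImplicit false
set_option maxRecDepth 1000000

namespace Cfsg.Agent.HN

open MulAction Cfsg.Agent.CosetEnum Cfsg.Agent.KMat Cfsg.Spor Cfsg.Agent.HNOut

theorem exists_toP : ∃ f : QA →* Equiv.Perm (Fin 12), Function.Injective f ∧
    ∀ u, wOK 11 u = true → ∀ i : Fin 12, (((f (ev qa u))⁻¹ i : Fin 12) : ℕ) = actW HNT12.P u i := by
  obtain ⟨A, hA, _⟩ := HNT12.tabOK.exists_action UA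
  have hF := faith_card.1 A hA
  refine ⟨@MulAction.toPermHom QA (Fin HNT12.P.m) _ A, hF, ?_⟩
  intro u hu i
  have hl : ∀ x ∈ u, x ∈ HNT12.lets := by
    intro x hx
    simp only [wOK, List.all_eq_true] at hu
    exact HNT12.tabOK.mem_iff.2 (hu x hx)
  have h1 := hA.word hl i
  rw [val_inv] at h1
  rw [← h1]
  rfl

noncomputable def toP : QA →* Equiv.Perm (Fin 12) := exists_toP.choose

theorem toP_inj : Function.Injective toP := exists_toP.choose_spec.1

theorem toP_word {u : List ℕ} (hu : wOK 11 u = true) (i : Fin 12) :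
    (((toP (ev qa u))⁻¹ i : Fin 12) : ℕ) = actW HNT12.P u i := exists_toP.choose_spec.2 u hu i

theorem toP_range : toP.range = alternatingGroup (Fin 12) := by
  have h1 : Nat.card toP.range = 239500800 := by
    rw [← card_QA]
    exact (Nat.card_congr (MonoidHom.ofInjective toP_inj).toEquiv).symm
  have h2 : toP.range.index = 2 := by
    have h3 := toP.range.card_mul_index
    rw [h1, Nat.card_perm, Nat.card_eq_fintype_card, Fintype.card_fin] at h3
    have h4 : (Nat.factorial 12) = 239500800 * 2 := by decide +kernel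
    rw [h4] at h3
    exact Nat.eq_of_mul_eq_mul_left (by norm_num) h3
  exact Equiv.Perm.eq_alternatingGroup_of_index_eq_two h2

noncomputable def EA : QA ≃* A12 := (MonoidHom.ofInjective toP_inj).trans (MulEquiv.subgroupCongr toP_range)

theorem EA_coe (a : QA) : (EA a : Equiv.Perm (Fin 12)) = toP a := rfl

/-- the embedding -/
noncomputable def iota : A12 →* Spor.HN := tN.comp EA.symm.toMonoidHom

theorem iota_EA (a : QA) : iota (EA a) = tN a := by
  show tN (EA.symm (EA a)) = tN a
  rw [EA.symm_apply_apply]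

theorem iota_apply (x : A12) : iota x = tN (EA.symm x) := rfl

theorem iota_inj : Function.Injective iota := tN_inj.comp EA.symm.injective

theorem iota_range : iota.range = HA := by
  rw [← tN_range]
  apply le_antisymm
  · rintro _ ⟨x, rfl⟩
    exact ⟨EA.symm x, rfl⟩
  · rintro _ ⟨a, rfl⟩
    exact ⟨EA a, iota_EA a⟩

/-- the transposition -/
def t05 : Equiv.Perm (Fin 12) := Equiv.swap 0 5

theorem ckD : (List.range' 1 11).all (fun x => wOK 11 (dx x) && (List.finRange 12).all fun i =>
    Nat.beq (actW HNT12.P (dx x) i) ((fun j : ℕ => if j = 0 then 5 else if j = 5 then 0 else j) (actW HNT12.P [x] (t05 i)))) = true := by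
  decide +kernel

theorem t05_val (j : Fin 12) : ((t05 j : Fin 12) : ℕ) = (fun j : ℕ => if j = 0 then 5 else if j = 5 then 0 else j) (j : ℕ) := by
  revert j
  decide

theorem EA_dx {x : ℕ} (h1 : 1 ≤ x) (h2 : x ≤ 11) : EA (ev qa (dx x)) = MulAut.conjNormal t05 (EA (qa x)) := by
  have h3 := List.all_eq_true.1 ckD x (by rw [List.mem_range'_1]; omega)
  rw [Bool.and_eq_true] at h3
  apply inv_injective
  apply Subtype.ext
  rw [← map_inv (MulAut.conjNormal t05), MulAut.conjNormal_apply]
  apply Equiv.ext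
  intro i
  apply Fin.ext
  have h4 : (((EA (ev qa (dx x)))⁻¹ : A12) : Equiv.Perm (Fin 12)) = (toP (ev qa (dx x)))⁻¹ := rfl
  have h5 : (((EA (qa x))⁻¹ : A12) : Equiv.Perm (Fin 12)) = (toP (ev qa [x]))⁻¹ := by
    simp [ev, EA_coe]
  rw [h4, h5, toP_word h3.1]
  have h6 : (t05⁻¹ : Equiv.Perm (Fin 12)) = t05 := by
    unfold t05
    simp
  rw [h6, Equiv.Perm.mul_apply, Equiv.Perm.mul_apply, t05_val, toP_word (isLet_iff.2 ⟨h1, by omega⟩ |> fun h => by simp [wOK, h])]
  have h7 := List.all_eq_true.1 h3.2 i (List.mem_finRange i)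
  exact Nat.eq_of_beq_eq_true h7

theorem delta_iota (x : A12) : delta (iota x) = iota (MulAut.conjNormal t05 x) := by
  obtain ⟨a, rfl⟩ := EA.surjective x
  have h : a ∈ Cl qa 11 := by rw [UA.top]; exact Subgroup.mem_top _
  unfold Cl at h
  induction h using Subgroup.closure_induction with
  | mem y hy =>
    obtain ⟨x, hx, rfl⟩ := hy
    obtain ⟨h1, h2⟩ := isLet_iff.1 (show isLet 11 x = true from hx)
    rw [← EA_dx h1 (by omega), iota_EA, iota_EA, th_qa gN_good (isLet_iff.2 ⟨h1, h2⟩), delta_g]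
    have h3 := List.all_eq_true.1 ckD x (by rw [List.mem_range'_1]; omega)
    rw [Bool.and_eq_true] at h3
    rw [th_word gN_good h3.1]
    rfl
  | one => simp
  | mul a b _ _ h1 h2 => rw [map_mul, map_mul, map_mul, map_mul, map_mul, h1, h2]
  | inv a _ h1 => rw [map_inv, map_inv, map_inv, map_inv, map_inv, h1]

theorem top_eq : iota.range ⊔ Subgroup.zpowers (gN 12) = ⊤ := by
  rw [iota_range, eq_top_iff, ← gN_top]
  conv_lhs => unfold Cl
  rw [Subgroup.closure_le]
  rintro _ ⟨x, hx, rfl⟩
  obtain ⟨h4, h5⟩ := isLet_iff.1 (show isLet 13 x = true from hx)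
  have hz : gN 12 ∈ HA ⊔ Subgroup.zpowers (gN 12) :=
    (le_sup_right : Subgroup.zpowers (gN 12) ≤ HA ⊔ Subgroup.zpowers (gN 12)) (Subgroup.mem_zpowers _)
  rcases Nat.lt_or_ge x 12 with h6 | h6
  · exact (le_sup_left : HA ≤ HA ⊔ Subgroup.zpowers (gN 12)) (mem_Cl gN (isLet_iff.2 ⟨h4, by omega⟩))
  · rcases Nat.lt_or_ge x 13 with h7 | h7
    · have : x = 12 := by omega
      subst this
      exact hz
    · have : x = 13 := by omega
      subst this
      have h8 : gN 13 = (gN 12)⁻¹ := gN_good.inv 12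
      rw [h8]
      exact Subgroup.inv_mem _ hz

/-- the seven-cycle -/
def y7 : Equiv.Perm (Fin 12) := [1, 2, 3, 4, 6, 7, 8].formPerm

theorem y7_mem : y7 ∈ alternatingGroup (Fin 12) := by
  rw [Equiv.Perm.mem_alternatingGroup]
  decide +kernel

def y7A : A12 := ⟨y7, y7_mem⟩

theorem y7_ord : orderOf y7A = 7 := by
  haveI : Fact (Nat.Prime 7) := ⟨by norm_num⟩
  apply orderOf_eq_prime
  · apply Subtype.ext
    show y7 ^ 7 = 1
    decide +kernel
  · intro h
    have h1 : y7 = 1 := congrArg Subtype.val h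
    revert h1
    decide +kernel

theorem y7_t : MulAut.conjNormal t05 y7A = y7A := by
  apply Subtype.ext
  rw [MulAut.conjNormal_apply]
  show t05 * y7 * t05⁻¹ = y7
  decide +kernel

theorem sign_t : Equiv.Perm.sign t05 = -1 := by
  unfold t05
  exact Equiv.Perm.sign_swap (by decide)

end Cfsg.Agent.HN
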