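import Cfsg.Agent.HNOut.Loc

/-! The subgroup `(S₆ × S₆) ∩ A₁₂` (owner: helper58). -/

set_option autoImplicit false
set_option maxRecDepth 1000000

namespace Cfsg.Agent.HN

open MulAction Cfsg.Agent.CosetEnum Cfsg.Agent.KMat Cfsg.Spor Cfsg.Agent.HNOut

/-- the elements conjugated by `u` into `A₁₂` -/
noncomputable def KK : Subgroup A12 := (iota.range.comap (MulAut.conj (gN 12)⁻¹).toMonoidHom).comap iota

theorem mem_KK {x : A12} : x ∈ KK ↔ (gN 12)⁻¹ * iota x * gN 12 ∈ iota.range := by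
  show MulAut.conj (gN 12)⁻¹ (iota x) ∈ iota.range ↔ _
  rw [MulAut.conj_apply, inv_inv]

theorem word_KK {w : List ℕ} (h1 : wOK 10 w = true) (h2 : wOK 11 w = true) : EA (ev qa w) ∈ KK := by
  rw [mem_KK, iota_EA, th_word gN_good h2, mul_assoc, al_word gN_good h1, inv_mul_cancel_left, iota_range]
  apply word_mem_Cl gN
  have h3 : ∀ v : List ℕ, wOK 10 v = true → wOK 11 (al v) = true := by
    intro v hv
    simp only [wOK, List.all_eq_true] at hv ⊢
    intro x hx
    unfold al at hx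
    rw [List.mem_flatMap] at hx
    obtain ⟨y, hy, hx⟩ := hx
    obtain ⟨h4, h5⟩ := isLet_iff.1 (hv y hy)
    have h6 : ∀ y ∈ List.range' 1 10, ∀ x ∈ al1 y, isLet 11 x = true := by decide
    exact h6 y (by rw [List.mem_range'_1]; omega) x hx
  exact h3 w h1

theorem T3_ok {t : (ℕ × ℕ × ℕ) × List ℕ} (ht : t ∈ T3) : wOK 10 t.2 = true ∧ wOK 11 t.2 = true := by
  have hck := List.all_eq_true.1 ckTU t ht
  simp only [Bool.and_eq_true, decide_eq_true_eq] at hck
  have h := List.all_eq_true.1 ckT3 t ht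
  rw [Bool.and_eq_true] at h
  exact ⟨hck.1, h.1⟩

theorem ckC : (List.finRange 12).all (fun i => (List.finRange 12).all fun j => decide (i = j) ||
    T3.any (fun t => Nat.beq (actW HNT12.P t.2 i) i && !Nat.beq (actW HNT12.P t.2 j) j)) = true := by decide +kernel

theorem cen_KK (c : A12) (hc : ∀ x ∈ KK, c * x = x * c) : c = 1 := by
  apply Subtype.ext
  apply Equiv.ext
  intro i
  by_contra hne
  have h1 := List.all_eq_true.1 (List.all_eq_true.1 ckC i (List.mem_finRange _)) ((c : Equiv.Perm (Fin 12)) i) (List.mem_finRange _)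
  rw [Bool.or_eq_true, decide_eq_true_eq] at h1
  rcases h1 with h1 | h1
  · exact hne h1.symm
  · rw [List.any_eq_true] at h1
    obtain ⟨t, ht, h1⟩ := h1
    rw [Bool.and_eq_true, Bool.not_eq_true'] at h1
    obtain ⟨h2, h3⟩ := h1
    obtain ⟨w1, w2⟩ := T3_ok ht
    have h4 := hc _ (word_KK w1 w2)
    have h5 : (c : Equiv.Perm (Fin 12)) * toP (ev qa t.2) = toP (ev qa t.2) * c := congrArg Subtype.val h4
    have h6 : (toP (ev qa t.2))⁻¹ i = i := Fin.ext (by rw [toP_word w2]; exact Nat.eq_of_beq_eq_true h2)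
    have h7 : (toP (ev qa t.2))⁻¹ ((c : Equiv.Perm (Fin 12)) i) = (c : Equiv.Perm (Fin 12)) i := by
      rw [Equiv.Perm.inv_eq_iff_eq] at h6 ⊢
      have h8 := congrArg (fun σ : Equiv.Perm (Fin 12) => σ i) h5
      simp only [Equiv.Perm.mul_apply] at h8
      rw [← h8, ← h6]
    have h8 : Nat.beq (actW HNT12.P t.2 ((c : Equiv.Perm (Fin 12)) i)) ((c : Equiv.Perm (Fin 12)) i) = true := by
      rw [← toP_word w2, h7]
      simp
    rw [h8] at h3
    exact absurd h3 (by decide)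

/-- five points -/
def S5 : Finset (Fin 12) := {0, 1, 2, 3, 4}

theorem card_S5 : S5.card = 5 := by decide

theorem cyc_KK (i : Fin 12) (hi : i ∈ S5) (h0 : (0 : Fin 12) ≠ i) (h1 : (1 : Fin 12) ≠ i) :
    Equiv.swap (0 : Fin 12) 1 * Equiv.swap 1 i ∈ KK.map (alternatingGroup (Fin 12)).subtype := by
  have h2 : ∃ w, ((0, 1, (i : ℕ)), w) ∈ T3 := by
    apply T3_all 0 (by norm_num) 1 (by norm_num) i i.2 (by norm_num)
    · revert i; decide
    · left; revert i; decide
  obtain ⟨w, hw⟩ := h2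
  obtain ⟨w1, w2⟩ := T3_ok hw
  refine ⟨(EA (ev qa w))⁻¹, KK.inv_mem (word_KK w1 w2), ?_⟩
  show (toP (ev qa w))⁻¹ = _
  apply Equiv.ext
  intro j
  apply Fin.ext
  rw [toP_word w2]
  have h := List.all_eq_true.1 ckT3 _ hw
  rw [Bool.and_eq_true] at h
  have h4 := Nat.eq_of_beq_eq_true (List.all_eq_true.1 h.2 j (List.mem_range.2 j.2))
  rw [h4]
  have h5 : ∀ i j : Fin 12, (0 : Fin 12) ≠ i → (1 : Fin 12) ≠ i → c3 (0, 1, (i : ℕ)) j =
      ((Equiv.swap (0 : Fin 12) 1 * Equiv.swap 1 i) j : Fin 12) := by decide +kernel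
  exact h5 i j h0 h1

theorem Sup_KK (x : A12) (hx : Sup S5 x) : x ∈ KK := by
  let α := {i : Fin 12 // i ∈ S5}
  let K' : Subgroup (Equiv.Perm α) := (KK.map (alternatingGroup (Fin 12)).subtype).comap
    (Equiv.Perm.ofSubtype : Equiv.Perm {i : Fin 12 // i ∈ S5} →* Equiv.Perm (Fin 12))
  have hp : (0 : Fin 12) ∈ S5 := by decide
  have hq : (1 : Fin 12) ∈ S5 := by decide
  have hle : alternatingGroup α ≤ K' := by
    apply AutAlt.alternating_le_of_cyc_mem (p := (⟨0, hp⟩ : α)) (q := ⟨1, hq⟩) (by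
      intro h
      have h9 : (0 : Fin 12) = 1 := congrArg Subtype.val h
      exact absurd h9 (by decide))
    intro i h0 h1
    refine Subgroup.mem_comap.2 ?_
    rw [map_mul, Equiv.Perm.ofSubtype_swap_eq, Equiv.Perm.ofSubtype_swap_eq]
    exact cyc_KK i i.2 (fun h => h0 (Subtype.ext h)) (fun h => h1 (Subtype.ext h))
  have h1 : ∀ i, (x : Equiv.Perm (Fin 12)) i ∈ S5 ↔ i ∈ S5 := by
    intro i
    constructor
    · intro h
      by_contra hi
      rw [hx i hi] at h
      exact hi h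
    · intro h
      by_contra hi
      have h2 := hx _ hi
      have h3 := (x : Equiv.Perm (Fin 12)).injective h2
      rw [h3] at hi
      exact hi h
  have h2 : ∀ i, (x : Equiv.Perm (Fin 12)) i ≠ i → i ∈ S5 := by
    intro i hi
    by_contra h
    exact hi (hx i h)
  have h3 := Equiv.Perm.ofSubtype_subtypePerm h1 h2
  have h4 : Equiv.Perm.subtypePerm (x : Equiv.Perm (Fin 12)) h1 ∈ alternatingGroup α := by
    rw [Equiv.Perm.mem_alternatingGroup, ← Equiv.Perm.sign_ofSubtype, h3]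
    exact x.2
  have h5 := hle h4
  have h6 : Equiv.Perm.ofSubtype (Equiv.Perm.subtypePerm (x : Equiv.Perm (Fin 12)) h1) ∈
      KK.map (alternatingGroup (Fin 12)).subtype := h5
  rw [h3] at h6
  obtain ⟨y, hy, h7⟩ := h6
  have h8 : y = x := Subtype.ext h7
  rwa [← h8]

end Cfsg.Agent.HN
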