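import Cfsg.Agent.CosetEnum.HN.Ord

/-!
Three-cycles of the alternating group in the Harada-Norton group inside the two blocks `{0, …, 5}` and
`{6, …, 11}` are not conjugated back into the alternating group by the representatives of seven of the double
cosets (owner: helper32).
-/

set_option autoImplicit false
set_option maxRecDepth 1000000
set_option linter.all false

namespace Cfsg.Agent.HN

open Cfsg.Agent.CosetEnum Cfsg.Agent.KMat Cfsg.Spor

/-- the three-cycles `a → b → c → a` inside the blocks, with words -/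
def T3 : List ((ℕ × ℕ × ℕ) × List ℕ) := [((0, 1, 2), [1, 9, 9, 2]),
  ((0, 1, 3), [2, 9]),
  ((0, 1, 4), [1, 9, 2, 10]),
  ((0, 1, 5), [1, 10, 2, 9, 3]),
  ((0, 2, 3), [1, 4, 10, 4, 9]),
  ((0, 2, 4), [9, 2]),
  ((0, 2, 5), [4, 10, 4, 9, 3]),
  ((0, 3, 4), [1, 2, 10, 10]),
  ((0, 3, 5), [4, 9, 4, 10, 3]),
  ((0, 4, 5), [1, 9, 2, 10, 3]),
  ((1, 2, 3), [4, 10, 4, 10]),
  ((1, 2, 4), [10, 2, 9, 9]),
  ((1, 2, 5), [3, 2, 10, 3]),
  ((1, 3, 4), [9, 9, 2, 10]),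
  ((1, 3, 5), [3, 9, 9, 3, 2]),
  ((1, 4, 5), [4, 10, 3, 4, 9]),
  ((2, 3, 4), [10, 4, 10, 4]),
  ((2, 3, 5), [2, 9, 3, 2, 9, 9]),
  ((2, 4, 5), [2, 3, 9, 9, 3]),
  ((3, 4, 5), [3, 10, 2, 3]),
  ((6, 7, 8), [5, 4]),
  ((6, 7, 9), [5, 6, 5, 4]),
  ((6, 7, 10), [5, 6, 7, 6, 5, 4]),
  ((6, 7, 11), [5, 6, 7, 8, 7, 6, 5, 4]),
  ((6, 8, 9), [4, 6, 5, 4]),
  ((6, 8, 10), [4, 6, 7, 6, 5, 4]),
  ((6, 8, 11), [4, 6, 7, 8, 7, 6, 5, 4]),
  ((6, 9, 10), [4, 5, 7, 6, 5, 4]),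
  ((6, 9, 11), [4, 5, 7, 8, 7, 6, 5, 4]),
  ((6, 10, 11), [4, 5, 6, 8, 7, 6, 5, 4]),
  ((7, 8, 9), [6, 5]),
  ((7, 8, 10), [6, 7, 6, 5]),
  ((7, 8, 11), [6, 7, 8, 7, 6, 5]),
  ((7, 9, 10), [5, 7, 6, 5]),
  ((7, 9, 11), [5, 7, 8, 7, 6, 5]),
  ((7, 10, 11), [5, 6, 8, 7, 6, 5]),
  ((8, 9, 10), [7, 6]),
  ((8, 9, 11), [7, 8, 7, 6]),
  ((8, 10, 11), [6, 8, 7, 6]),
  ((9, 10, 11), [8, 7])]

/-- the three-cycle `a → b → c → a` -/
def c3 (t : ℕ × ℕ × ℕ) (i : ℕ) : ℕ := if i = t.1 then t.2.1 else if i = t.2.1 then t.2.2 else if i = t.2.2 then t.1 else i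

theorem ckT3 : T3.all (fun t => wOK 11 t.2 && (List.range 12).all fun i => Nat.beq (actW HNT12.P t.2 i) (c3 t.1 i)) = true := by
  decide +kernel

/-- boolean form of the enumeration -/
theorem T3_allB : (List.range 12).all (fun a => (List.range 12).all fun b => (List.range 12).all fun c =>
    !(Nat.blt a b && Nat.blt b c && (Nat.blt c 6 || Nat.ble 6 a)) ||
      T3.any (fun t => Nat.beq t.1.1 a && Nat.beq t.1.2.1 b && Nat.beq t.1.2.2 c)) = true := by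
  decide +kernel

theorem T3_all : ∀ a < 12, ∀ b < 12, ∀ c < 12, a < b → b < c → (c < 6 ∨ 6 ≤ a) → ∃ w, ((a, b, c), w) ∈ T3 := by
  intro a ha b hb c hc hab hbc h
  have h1 := (List.all_eq_true.1 T3_allB) a (List.mem_range.2 ha)
  have h2 := (List.all_eq_true.1 h1) b (List.mem_range.2 hb)
  have h3 := (List.all_eq_true.1 h2) c (List.mem_range.2 hc)
  have h4 : (Nat.blt a b && Nat.blt b c && (Nat.blt c 6 || Nat.ble 6 a)) = true := by
    simp only [Bool.and_eq_true, Bool.or_eq_true, Nat.blt_eq, Nat.ble_eq]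
    exact ⟨⟨hab, hbc⟩, h⟩
  rw [h4] at h3
  simp only [Bool.not_true, Bool.false_or, List.any_eq_true, Bool.and_eq_true, Nat.beq_eq] at h3
  obtain ⟨⟨⟨a', b', c'⟩, w⟩, hm, ⟨h5, h6⟩, h7⟩ := h3
  simp only at h5 h6 h7
  subst h5 h6 h7
  exact ⟨w, hm⟩

/-- the three-cycles move the images of the fixed vector -/
theorem noTB : [W2, W3, W6, W7, W9, W10, W11].all (fun W => force (walk PM ms (W.flatMap nw) 1) fun v =>
    T3.all fun t => !(Nat.beq (walk PM ms (t.2.flatMap nw) v) v)) = true := by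
  decide +kernel

theorem ckT3_wOK {t : (ℕ × ℕ × ℕ) × List ℕ} (ht : t ∈ T3) : wOK 11 t.2 = true := by
  have h := (List.all_eq_true.1 ckT3) t ht
  rw [Bool.and_eq_true] at h
  exact h.1

theorem ckW : [W2, W3, W6, W7, W9, W10, W11].all (wOK 13) = true := by decide +kernel

theorem noT : ∀ W ∈ [W2, W3, W6, W7, W9, W10, W11], ∀ t ∈ T3, ev gN W * tN (ev qa t.2) * (ev gN W)⁻¹ ∉ HA := by
  intro W hW t ht hm
  have hw11 := ckT3_wOK ht
  have hWo : wOK 13 W = true := (List.all_eq_true.1 ckW) W hW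
  rw [show tN (ev qa t.2) = ev gN t.2 from th_word gN_good hw11] at hm
  set h := ev gN W * ev gN t.2 * (ev gN W)⁻¹ with hh
  have h1 : im (ev gN W * ev gN t.2) = im (ev gN W) := by
    have h2 : ev gN W * ev gN t.2 = h * ev gN W := by rw [hh, inv_mul_cancel_right]
    rw [h2, im_mul, im_HA hm]
    rfl
  have hw13 : wOK 13 t.2 = true := by
    simp only [wOK, List.all_eq_true] at hw11 ⊢
    intro x hx
    have h3 := isLet_iff.1 (hw11 x hx)
    exact isLet_iff.2 (by omega)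
  have hWt : wOK 13 (W ++ t.2) = true := by
    simp only [wOK, List.all_append, Bool.and_eq_true] at hWo hw13 ⊢
    exact ⟨hWo, hw13⟩
  have h8 : ev gN W * ev gN t.2 = wd gN (W ++ t.2) := by
    rw [wd_append]
    rfl
  rw [h8, show ev gN W = wd gN W from rfl, im_nice hWt, im_nice hWo] at h1
  have h9 : ∀ {w : List ℕ}, wOK 13 w = true → Vec PM (walk PM ms (w.flatMap nw) 1) := fun {w} hw =>
    (walk_sound PM_ok (u := w.flatMap nw) (fun x hx => RT.mok x (isLet11 ((List.all_eq_true.1 (wOK_flat hw)) x hx))) e0_vec).1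
  have h10 := dec_inj PM_ok (h9 hWt) (h9 hWo) h1
  have h11 := (List.all_eq_true.1 noTB) W hW
  rw [force_eq] at h11
  have h12 := (List.all_eq_true.1 h11) t ht
  have walk_append : ∀ (u u' : List ℕ) (v : ℕ), walk PM ms (u ++ u') v = walk PM ms u' (walk PM ms u v) := by
    intro u u'
    induction u with
    | nil => intro v; rfl
    | cons x u ih => intro v; rw [List.cons_append, walk_cons, walk_cons, ih]
  rw [List.flatMap_append, walk_append] at h10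
  rw [h10] at h12
  simp at h12

end Cfsg.Agent.HN
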