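import Cfsg.Agent.HNOut.Stab
import Cfsg.Agent.HNOut.NoT

/-! Centralisers of `A₅` and of elements of order 7 (owner: helper58). -/

set_option autoImplicit false
set_option maxRecDepth 1000000

namespace Cfsg.Agent.HN

open MulAction Cfsg.Agent.CosetEnum Cfsg.Agent.KMat Cfsg.Spor Cfsg.Agent.HNOut

theorem loc {c : Spor.HN} (hc : c ∉ HA) : ∃ W ∈ Ws.tail, ∃ a : QA, c * (ev gN W * tN a)⁻¹ ∈ HA ∧
    ∀ z : QA, c * tN z = tN z * c → a * z * a⁻¹ ∈ St W := by
  obtain ⟨W, hW, a, ha⟩ := cover_H gN_good gN_top c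
  have hta : tN a ∈ HA := th_mem gN_good a
  have hW' : W ∈ Ws.tail := by
    simp only [Ws, List.tail_cons, List.mem_cons, List.not_mem_nil, or_false] at hW ⊢
    rcases hW with rfl | hW
    · exfalso
      apply hc
      have h1 : c = c * (ev gN W0 * tN a)⁻¹ * tN a := by
        have : ev gN W0 = 1 := rfl
        rw [this]; group
      rw [h1]
      exact HA.mul_mem ha hta
    · exact hW
  refine ⟨W, hW', a, ha, fun x hx => ?_⟩
  rw [mem_St]
  have h1 : ev gN W * tN (a * x * a⁻¹) * (ev gN W)⁻¹ = (ev gN W * tN a) * tN x * (ev gN W * tN a)⁻¹ := by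
    rw [map_mul, map_mul, map_inv]; group
  have h2 : (ev gN W * tN a) * tN x * (ev gN W * tN a)⁻¹ =
      (c * (ev gN W * tN a)⁻¹)⁻¹ * (c * tN x * c⁻¹) * (c * (ev gN W * tN a)⁻¹) := by group
  rw [h1, h2, hx, mul_inv_cancel_right]
  have h3 : tN x ∈ HA := th_mem gN_good _
  exact HA.mul_mem (HA.mul_mem (HA.inv_mem ha) h3) ha

theorem dvd_St {W : List ℕ} {a : QA} (h : a ∈ St W) : orderOf a ∣ Nat.card (St W) := by
  have h1 := orderOf_dvd_natCard (⟨a, h⟩ : St W)
  rwa [← Subgroup.orderOf_coe] at h1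

theorem ord_conj (a z : QA) : orderOf (a * z * a⁻¹) = orderOf z := by
  have h := MulEquiv.orderOf_eq (MulAut.conj a) z
  rwa [MulAut.conj_apply] at h

theorem loc7 (y : A12) (hy : orderOf y = 7) (c : Spor.HN) (hc : c * iota y = iota y * c) : c ∈ iota.range := by
  rw [iota_range]
  by_contra h
  obtain ⟨W, hW, a, _, h2⟩ := loc h
  have h3 := dvd_St (h2 (EA.symm y) hc)
  rw [ord_conj, MulEquiv.orderOf_eq, hy] at h3
  simp only [Ws, List.tail_cons, List.mem_cons, List.not_mem_nil, or_false] at hW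
  rcases hW with rfl | rfl | rfl | rfl | rfl | rfl | rfl | rfl | rfl | rfl | rfl
  · rw [card_St1] at h3; norm_num at h3
  · rw [card_St2] at h3; norm_num at h3
  · rw [card_St3] at h3; norm_num at h3
  · rw [card_St4] at h3; norm_num at h3
  · rw [card_St5] at h3; norm_num at h3
  · rw [card_St6] at h3; norm_num at h3
  · rw [card_St7] at h3; norm_num at h3
  · rw [card_St8] at h3; norm_num at h3
  · rw [card_St9] at h3; norm_num at h3
  · rw [card_St10] at h3; norm_num at h3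
  · rw [card_St11] at h3; norm_num at h3

theorem exists_five (S : Finset (Fin 12)) (hS : S.card = 5) : ∃ x : A12, Sup S x ∧ orderOf x = 5 := by
  have hn : S.toList.Nodup := S.nodup_toList
  have hl : S.toList.length = 5 := by rw [Finset.length_toList, hS]
  have hc : S.toList.formPerm.IsCycle := List.isCycle_formPerm hn (by omega)
  have hs : S.toList.formPerm.support = S := by
    rw [List.support_formPerm_of_nodup _ hn]
    · simp
    · intro x hx
      rw [hx] at hl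
      simp at hl
  have ho : orderOf S.toList.formPerm = 5 := by rw [hc.orderOf, hs, hS]
  have he : S.toList.formPerm ∈ alternatingGroup (Fin 12) := by
    rw [Equiv.Perm.mem_alternatingGroup, hc.sign, hs, hS]
    decide
  refine ⟨⟨_, he⟩, fun i hi => ?_, ?_⟩
  · rw [← hs] at hi
    exact Equiv.Perm.notMem_support.1 hi
  · rw [← Subgroup.orderOf_coe]
    exact ho

theorem T3_fix {t : (ℕ × ℕ × ℕ) × List ℕ} (ht : t ∈ T3) {j : Fin 12} (h1 : (j : ℕ) ≠ t.1.1) (h2 : (j : ℕ) ≠ t.1.2.1)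
    (h3 : (j : ℕ) ≠ t.1.2.2) : toP (ev qa t.2) j = j := by
  have h := List.all_eq_true.1 ckT3 t ht
  rw [Bool.and_eq_true] at h
  have h4 := List.all_eq_true.1 h.2 j (List.mem_range.2 j.2)
  have h5 := toP_word h.1 j
  rw [Nat.eq_of_beq_eq_true h4, c3, if_neg h1, if_neg h2, if_neg h3] at h5
  have h6 : (toP (ev qa t.2))⁻¹ j = j := Fin.ext h5
  rw [Equiv.Perm.inv_eq_iff_eq] at h6
  exact h6.symm

theorem pigeon (S : Finset (Fin 12)) (hS : S.card = 5) : ∃ a b c : Fin 12, a ∈ S ∧ b ∈ S ∧ c ∈ S ∧ a < b ∧ b < c ∧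
    ((c : ℕ) < 6 ∨ 6 ≤ (a : ℕ)) := by
  have key : ∀ T : Finset (Fin 12), T ⊆ S → 3 ≤ T.card → ∃ a b c : Fin 12, a ∈ T ∧ b ∈ T ∧ c ∈ T ∧ a < b ∧ b < c := by
    intro T _ hT
    let e := T.orderEmbOfFin rfl
    refine ⟨e ⟨0, by omega⟩, e ⟨1, by omega⟩, e ⟨2, by omega⟩, T.orderEmbOfFin_mem rfl _, T.orderEmbOfFin_mem rfl _,
      T.orderEmbOfFin_mem rfl _, ?_, ?_⟩
    · rw [e.lt_iff_lt]; exact Fin.mk_lt_mk.2 (by norm_num)
    · rw [e.lt_iff_lt]; exact Fin.mk_lt_mk.2 (by norm_num)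
  have h1 := Finset.card_filter_add_card_filter_not (s := S) (fun i : Fin 12 => (i : ℕ) < 6)
  rcases Nat.lt_or_ge (S.filter fun i : Fin 12 => (i : ℕ) < 6).card 3 with h2 | h2
  · obtain ⟨a, b, c, h3, h4, h5, h6, h7⟩ := key (S.filter fun i : Fin 12 => ¬ (i : ℕ) < 6) (Finset.filter_subset _ _) (by omega)
    rw [Finset.mem_filter] at h3 h4 h5
    exact ⟨a, b, c, h3.1, h4.1, h5.1, h6, h7, Or.inr (by omega)⟩
  · obtain ⟨a, b, c, h3, h4, h5, h6, h7⟩ := key (S.filter fun i : Fin 12 => (i : ℕ) < 6) (Finset.filter_subset _ _) h2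
    rw [Finset.mem_filter] at h3 h4 h5
    exact ⟨a, b, c, h3.1, h4.1, h5.1, h6, h7, Or.inl h5.2⟩

theorem ckTU : T3.all (fun t => wOK 10 t.2 && (wOK 11 (al t.2) && (decide ((Finset.univ.filter fun i : Fin 12 => actW HNT12.P t.2 i ≠ i).card = 3)
    && decide ((Finset.univ.filter fun i : Fin 12 => actW HNT12.P (al t.2) i ≠ i).card = 6)))) = true := by decide +kernel

theorem supp_card {u : List ℕ} (hu : wOK 11 u = true) : (toP (ev qa u)).support.card =
    (Finset.univ.filter fun i : Fin 12 => actW HNT12.P u i ≠ i).card := by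
  rw [← Equiv.Perm.support_inv]
  congr 1
  ext i
  rw [Equiv.Perm.mem_support, Finset.mem_filter]
  simp only [Finset.mem_univ, true_and, ne_eq, not_iff_not]
  rw [← toP_word hu i, Fin.ext_iff]

theorem u_sq : gN 12 * gN 12 = tN (ev qa [6, 8]) := by
  rw [th_word gN_good (by decide)]
  have h := usq gN_good
  simpa [ev] using h

theorem u_noT {t : (ℕ × ℕ × ℕ) × List ℕ} (ht : t ∈ T3) {c : Spor.HN} {a : QA} (h1 : c * (gN 12 * tN a)⁻¹ ∈ HA)
    (h2 : c * tN (a⁻¹ * ev qa t.2 * a) = tN (a⁻¹ * ev qa t.2 * a) * c) : False := by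
  rw [← tN_range] at h1
  obtain ⟨k, hk⟩ := h1
  have hck := List.all_eq_true.1 ckTU t ht
  simp only [Bool.and_eq_true, decide_eq_true_eq] at hck
  obtain ⟨w1, w2, w3, w4⟩ := hck
  have hw : wOK 11 t.2 = true := by
    simp only [wOK, List.all_eq_true] at w1 ⊢
    intro x hx
    have := isLet_iff.1 (w1 x hx)
    exact isLet_iff.2 (by omega)
  have hc : c = tN k * (gN 12 * tN a) := by rw [hk]; group
  have h3 := al_word gN_good w1
  rw [← th_word gN_good hw, ← th_word gN_good w2] at h3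
  -- `u⁻¹ y u = al y`
  have h4 : gN 12 * tN (ev qa t.2) * (gN 12)⁻¹ =
      tN (ev qa [6, 8]) * tN (ev qa (al t.2)) * (tN (ev qa [6, 8]))⁻¹ := by
    rw [← u_sq]
    have : gN 12 * gN 12 * tN (ev qa (al t.2)) * (gN 12 * gN 12)⁻¹ =
        gN 12 * (gN 12 * tN (ev qa (al t.2))) * (gN 12 * gN 12)⁻¹ := by group
    rw [this, ← h3]
    group
  have h5 : tN (a⁻¹ * ev qa t.2 * a) = tN ((k * ev qa [6, 8]) * ev qa (al t.2) * (k * ev qa [6, 8])⁻¹) := by
    have h6 : tN (a⁻¹ * ev qa t.2 * a) = c * tN (a⁻¹ * ev qa t.2 * a) * c⁻¹ := by rw [h2, mul_inv_cancel_right]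
    rw [h6, hc]
    have h7 : tN k * (gN 12 * tN a) * tN (a⁻¹ * ev qa t.2 * a) * (tN k * (gN 12 * tN a))⁻¹ =
        tN k * (gN 12 * tN (ev qa t.2) * (gN 12)⁻¹) * (tN k)⁻¹ := by
      rw [map_mul, map_mul, map_inv]; group
    rw [h7, h4, map_mul, map_mul, map_inv, map_mul]
    group
  have h8 := congrArg toP (tN_inj h5)
  have h9 := congrArg (fun σ : Equiv.Perm (Fin 12) => σ.support.card) h8
  simp only [map_mul, map_inv] at h9
  rw [← map_mul toP k, ← map_inv toP (k * _)] at h9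
  have e1 : (toP a)⁻¹ * toP (ev qa t.2) * toP a = (toP a)⁻¹ * toP (ev qa t.2) * ((toP a)⁻¹)⁻¹ := by rw [inv_inv]
  rw [e1, Equiv.Perm.card_support_conj, map_inv, Equiv.Perm.card_support_conj, supp_card hw, supp_card w2, w3, w4] at h9
  omega

theorem loc5 (S : Finset (Fin 12)) (hS : S.card = 5) (c : Spor.HN) (hc : ∀ x : A12, Sup S x → c * iota x = iota x * c) :
    c ∈ iota.range := by
  rw [iota_range]
  by_contra h
  obtain ⟨W, hW, a, h1, h2⟩ := loc h
  -- the three-cycle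
  obtain ⟨i, j, k, hi, hj, hk, hij, hjk, hh⟩ := pigeon (S.image (toP a)) (by
    rw [Finset.card_image_of_injective _ (toP a).injective, hS])
  obtain ⟨w, hw⟩ := T3_all i i.2 j j.2 k k.2 hij hjk hh
  have hz : ∀ z : QA, Sup S (EA z) → c * tN z = tN z * c := by
    intro z hz
    have := hc _ hz
    rwa [iota_EA] at this
  have hs : Sup S (EA (a⁻¹ * ev qa w * a)) := by
    intro l hl
    rw [EA_coe, map_mul, map_mul, map_inv, Equiv.Perm.mul_apply, Equiv.Perm.mul_apply, Equiv.Perm.inv_eq_iff_eq]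
    have hn : toP a l ∉ S.image (toP a) := by
      intro h3
      obtain ⟨m, hm, h4⟩ := Finset.mem_image.1 h3
      exact hl ((toP a).injective h4 ▸ hm)
    refine T3_fix (t := ((i, j, k), w)) hw ?_ ?_ ?_
    · intro h3; exact hn (Fin.ext h3 ▸ hi)
    · intro h3; exact hn (Fin.ext h3 ▸ hj)
    · intro h3; exact hn (Fin.ext h3 ▸ hk)
  have h3 := h2 _ (hz _ hs)
  have h4 : a * (a⁻¹ * ev qa w * a) * a⁻¹ = ev qa w := by group
  rw [h4] at h3
  have h5 : ∀ W', W = W' → 5 ∣ Nat.card (St W') := by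
    rintro W' rfl
    obtain ⟨x, hx, ho⟩ := exists_five S hS
    have h6 := dvd_St (h2 (EA.symm x) (hz _ (by rwa [EA.apply_symm_apply])))
    rwa [ord_conj, MulEquiv.orderOf_eq, ho] at h6
  have h6 : W ∈ [W2, W3, W6, W7, W9, W10, W11] → False := fun h6 => noT W h6 _ hw (mem_St.1 h3)
  simp only [Ws, List.tail_cons, List.mem_cons, List.not_mem_nil, or_false] at hW
  rcases hW with h7 | h7 | h7 | h7 | h7 | h7 | h7 | h7 | h7 | h7 | h7
  · have hev : ev gN W = gN 12 := by rw [h7]; simp [ev, W1]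
    rw [hev] at h1
    exact u_noT (t := ((i, j, k), w)) hw h1 (hz _ hs)
  · exact h6 (by simp [h7])
  · exact h6 (by simp [h7])
  · have := h5 _ h7
    rw [card_St4] at this; norm_num at this
  · have := h5 _ h7
    rw [card_St5] at this; norm_num at this
  · exact h6 (by simp [h7])
  · exact h6 (by simp [h7])
  · have := h5 _ h7
    rw [card_St8] at this; norm_num at this
  · exact h6 (by simp [h7])
  · exact h6 (by simp [h7])
  · exact h6 (by simp [h7])

theorem hyp : Hyp iota where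
  inj := iota_inj
  fin := finite_HN
  not49 := by rw [card_HN]; norm_num
  loc5 := loc5
  loc7 := loc7

end Cfsg.Agent.HN
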