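import Cfsg.Agent.HNOut.Spec

/-!
# S2082 piece P1b2 (owner: helper41)
-/

set_option autoImplicit false

namespace Cfsg.Agent.HNOut

/-- elements with disjoint supports commute -/
theorem comm_of_sup {S T : Finset (Fin 12)} (hST : Disjoint S T) {x y : A12} (hx : Sup S x) (hy : Sup T y) :
    x * y = y * x := by
  apply Subtype.ext
  have h1 : Equiv.Perm.Disjoint (x : Equiv.Perm (Fin 12)) (y : Equiv.Perm (Fin 12)) := by
    intro i
    by_cases hi : i ∈ S
    · right
      exact hy i (Finset.disjoint_left.1 hST hi)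
    · left
      exact hx i hi
  exact h1.commute

theorem mem_compl_aux : ∀ i : Fin 12, i ∉ ({0,1,2,3,4,5,6} : Finset (Fin 12)) →
    i ∈ ({5,6,7,8,9,10,11} : Finset (Fin 12)) := by decide

theorem tau_of {G : Type} [Group G] {ι : A12 →* G} (h : Hyp ι) (β : MulAut G)
    (h7 : ∀ x, Sup {0,1,2,3,4,5,6} x → β (ι x) ∈ ι.range) (S : Finset (Fin 12)) (hS : S.card = 5)
    (h5 : ∀ y, Sup S y → ∃ x, Sup {0,1,2,3,4} x ∧ β (ι x) = ι y) :
    ∃ τ : Equiv.Perm (Fin 12), ∀ x : A12, β (ι x) = ι (MulAut.conjNormal τ x) := by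
  have h12 : ∀ x, Sup {5,6,7,8,9,10,11} x → β (ι x) ∈ ι.range := by
    intro x hx
    apply h.loc5 S hS
    intro y hy
    obtain ⟨x', hx', hx2⟩ := h5 y hy
    rw [← hx2, ← map_mul, ← map_mul, ← map_mul, ← map_mul,
      comm_of_sup (by decide : Disjoint ({5,6,7,8,9,10,11} : Finset (Fin 12)) {0,1,2,3,4}) hx hx']
  obtain ⟨H, hH⟩ : ∃ H : Subgroup A12, ∀ x, x ∈ H ↔ β (ι x) ∈ ι.range :=
    ⟨(ι.range.comap β.toMonoidHom).comap ι, fun x => Iff.rfl⟩
  have hle : alternatingGroup (Fin 12) ≤ H.map (alternatingGroup (Fin 12)).subtype := by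
    apply Cfsg.Agent.AutAlt.alternating_le_of_cyc_mem (p := (5 : Fin 12)) (q := 6) (by decide)
    intro i h5i h6i
    have hmem : Equiv.swap (5 : Fin 12) 6 * Equiv.swap 6 i ∈ alternatingGroup (Fin 12) := by
      rw [Equiv.Perm.mem_alternatingGroup, map_mul, Equiv.Perm.sign_swap (by decide), Equiv.Perm.sign_swap h6i]
      decide
    refine ⟨⟨_, hmem⟩, ?_, rfl⟩
    have hfix : ∀ j : Fin 12, j ≠ 5 → j ≠ 6 → j ≠ i → (Equiv.swap (5 : Fin 12) 6 * Equiv.swap 6 i) j = j := by
      intro j h1 h2 h3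
      rw [Equiv.Perm.mul_apply, Equiv.swap_apply_of_ne_of_ne h2 h3, Equiv.swap_apply_of_ne_of_ne h1 h2]
    show (⟨_, hmem⟩ : A12) ∈ H
    rw [hH]
    by_cases hi : i ∈ ({0,1,2,3,4,5,6} : Finset (Fin 12))
    · apply h7
      intro j hj
      apply hfix
      · rintro rfl; exact hj (by decide)
      · rintro rfl; exact hj (by decide)
      · rintro rfl; exact hj hi
    · have hi' : i ∈ ({5,6,7,8,9,10,11} : Finset (Fin 12)) := mem_compl_aux i hi
      apply h12
      intro j hj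
      apply hfix
      · rintro rfl; exact hj (by decide)
      · rintro rfl; exact hj (by decide)
      · rintro rfl; exact hj hi'
  have hall : ∀ x : A12, β (ι x) ∈ ι.range := by
    intro x
    obtain ⟨x', hx', hx2⟩ := hle x.2
    have h1 : x' = x := Subtype.ext hx2
    rw [← h1]
    exact (hH x').1 hx'
  obtain ⟨φ, hφ⟩ : ∃ φ : A12 →* A12, ∀ x, ι (φ x) = β (ι x) := by
    refine ⟨((MonoidHom.ofInjective h.inj).symm.toMonoidHom).comp
      ((β.toMonoidHom.comp ι).codRestrict ι.range hall), fun x => ?_⟩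
    have h1 := MonoidHom.apply_ofInjective_symm h.inj (((β.toMonoidHom.comp ι).codRestrict ι.range hall) x)
    exact h1
  have hinj : Function.Injective φ := by
    intro x y hxy
    apply h.inj
    apply β.injective
    rw [← hφ, ← hφ, hxy]
  have hbij : Function.Bijective φ := Finite.injective_iff_bijective.1 hinj
  obtain ⟨τ, hτ⟩ := (Cfsg.Agent.AutAlt.conjNormal_bijective (α := Fin 12) (by simp) (by simp)).2
    (MulEquiv.ofBijective φ hbij)
  refine ⟨τ, fun x => ?_⟩
  rw [hτ, ← hφ]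
  rfl

end Cfsg.Agent.HNOut
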