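import Cfsg.Agent.CosetEnum.HN.Ord

/-! The relation of the outer automorphism of the Harada-Norton group (owner: helper58). -/

set_option autoImplicit false
set_option maxRecDepth 1000000

namespace Cfsg.Agent.HN

open MulAction Cfsg.Agent.CosetEnum Cfsg.Agent.KMat Cfsg.Spor

/-- the new relation -/
def dw6 : List ℕ := expand ([12, 1, 3, 11, 3, 4], 5)

def dwr : List ℕ := dw6.flatMap nw

theorem dcr0 : allR (prB PM ms [(dwr, [])]) 0 34 = true := by decide +kernel

theorem dcr1 : allR (prB PM ms [(dwr, [])]) 34 33 = true := by decide +kernel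

theorem dcr2 : allR (prB PM ms [(dwr, [])]) 67 33 = true := by decide +kernel

theorem dcr3 : allR (prB PM ms [(dwr, [])]) 100 33 = true := by decide +kernel

theorem dcr : Cov (prB PM ms [(dwr, [])]) 0 133 :=
  (((Cov.of dcr0 rfl).trans (Cov.of dcr1 rfl)).trans (Cov.of dcr2 rfl)).trans (Cov.of dcr3 rfl)

theorem dwr_ok : wOK 11 dwr = true := by decide +kernel

theorem phi_inj : Function.Injective phi := by
  haveI := simple_HN
  rcases (inferInstance : phi.ker.Normal).eq_bot_or_eq_top with h | h
  · exact (MonoidHom.ker_eq_bot_iff _).1 h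
  · exfalso
    have h1 : phi (gN 9) = 1 := by
      have h2 : gN 9 ∈ phi.ker := by rw [h]; exact Subgroup.mem_top _
      exact h2
    rw [gN9, phi_let (by decide)] at h1
    refine RT.ne (u := [6]) (u' := []) ?_ (by simp) e7_vec t_mv (by simpa using h1)
    intro x hx
    simp only [List.mem_cons, List.not_mem_nil, or_false] at hx
    subst hx
    decide

theorem rel6 : wd gN dw6 = 1 := by
  apply phi_inj
  rw [wd_gN, map_one, show List.flatMap nw dw6 = dwr from rfl, phi_wd dwr_ok]
  have h := RT.rel dcr (p := (dwr, [])) (by simp) (fun x hx => isLet11 ((List.all_eq_true.1 dwr_ok) x hx)) (by simp)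
  exact h

end Cfsg.Agent.HN
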