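import Cfsg.Agent.HNOut.Iota

/-! Point stabilisers in `A₁₂` (owner: helper58). -/

set_option autoImplicit false
set_option maxRecDepth 1000000

namespace Cfsg.Agent.HN

open MulAction Cfsg.Agent.CosetEnum Cfsg.Agent.KMat Cfsg.Spor Cfsg.Agent.HNOut

/-- the stabiliser of the coset of `W` -/
noncomputable def St (W : List ℕ) : Subgroup QA := (stabilizer Spor.HN (pt gN (ev gN W))).comap tN

theorem inv_mem_HA {x : Spor.HN} : x⁻¹ ∈ HA ↔ x ∈ HA := inv_mem_iff

theorem mem_St {W : List ℕ} {a : QA} : a ∈ St W ↔ ev gN W * tN a * (ev gN W)⁻¹ ∈ HA := by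
  show tN a • pt gN (ev gN W) = pt gN (ev gN W) ↔ _
  rw [smul_pt gN_good, pt_eq, map_inv, ← inv_mem_iff (x := ev gN W * (tN a)⁻¹ * (ev gN W)⁻¹)]
  simp only [mul_inv_rev, inv_inv, mul_assoc]

theorem stab_eq (A : MulAction QA (Spor.HN ⧸ Cl gN 11)) (hA : ∀ (a : QA) (x : Spor.HN ⧸ Cl gN 11), a • x = tN a • x)
    (W : List ℕ) : stabilizer QA (pt gN (ev gN W)) = St W := by
  ext a
  show a • pt gN (ev gN W) = pt gN (ev gN W) ↔ tN a • pt gN (ev gN W) = pt gN (ev gN W)
  rw [hA]

theorem sgs : ∀ p ∈ Ws.zip [1, 462, 16632, 10395, 30800, 311850, 166320, 166320, 69300, 362880, 2520, 2520], 239500800 ≤ p.2 * Nat.card (St p.1) := by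
  letI A : MulAction QA (Spor.HN ⧸ Cl gN 11) := MulAction.compHom _ tN
  have hA : ∀ (a : QA) (x : Spor.HN ⧸ Cl gN 11), a • x = tN a • x := fun _ _ => rfl
  intro p hp
  rw [← stab_eq A hA]
  simp only [Ws, List.zip_cons_cons, List.zip_nil_left, List.mem_cons, List.not_mem_nil, or_false] at hp
  rcases hp with rfl | rfl | rfl | rfl | rfl | rfl | rfl | rfl | rfl | rfl | rfl | rfl
  · exact sg0 gN_good A hA
  · exact sg1 gN_good A hA
  · exact sg2 gN_good A hA
  · exact sg3 gN_good A hA
  · exact sg4 gN_good A hA
  · exact sg5 gN_good A hA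
  · exact sg6 gN_good A hA
  · exact sg7 gN_good A hA
  · exact sg8 gN_good A hA
  · exact sg9 gN_good A hA
  · exact sg10 gN_good A hA
  · exact sg11 gN_good A hA

theorem gdAll : ∀ W ∈ Ws, ∀ a, Gd gN_good Ws W a := by
  intro W hW a
  simp only [Ws, List.mem_cons, List.not_mem_nil, or_false] at hW
  rcases hW with rfl | rfl | rfl | rfl | rfl | rfl | rfl | rfl | rfl | rfl | rfl | rfl
  · exact gd0 gN_good a
  · exact gd1 gN_good a
  · exact gd2 gN_good a
  · exact gd3 gN_good a
  · exact gd4 gN_good a
  · exact gd5 gN_good a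
  · exact gd6 gN_good a
  · exact gd7 gN_good a
  · exact gd8 gN_good a
  · exact gd9 gN_good a
  · exact gd10 gN_good a
  · exact gd11 gN_good a

theorem no_small {cs : List ℕ} (h1 : Ws.length = cs.length) (h2 : ∀ p ∈ Ws.zip cs, 239500800 ≤ p.2 * Nat.card (St p.1))
    (h3 : cs.sum < 1140000) : False := by
  have h4 := (index_le gN_good h1 (by decide) gdAll (fun A hA p hp => by
    rw [stab_eq A hA]
    exact h2 p hp) gN_top).2
  have h5 : (Cl gN 11).index = 1140000 := index_eq
  omega

theorem card_of {s c : ℕ} (hc : 0 < c) (h1 : 239500800 ≤ c * s) (h2 : ¬ 239500800 ≤ (c - 1) * s) (h3 : s ∣ 239500800) :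
    c * s = 239500800 := by
  obtain ⟨o, ho⟩ := h3
  have hs : 0 < s := by
    rcases Nat.eq_zero_or_pos s with h | h
    · rw [h, zero_mul] at ho
      omega
    · exact h
  rw [ho] at h1 h2 ⊢
  have h4 : o ≤ c := Nat.le_of_mul_le_mul_left (by rwa [mul_comm c s] at h1) hs
  have h5 : ¬ o ≤ c - 1 := by
    intro h6
    apply h2
    rw [mul_comm (c - 1) s]
    exact Nat.mul_le_mul_left s h6
  have h6 : o = c := by omega
  rw [h6, mul_comm]

theorem St_dvd (W : List ℕ) : Nat.card (St W) ∣ 239500800 := by
  rw [← card_QA]
  exact Subgroup.card_subgroup_dvd_card _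

theorem card_St1 : Nat.card (St W1) = 518400 := by
  have h := card_of (s := Nat.card (St W1)) (c := 462) (by norm_num) (sgs (W1, 462) (by simp [Ws])) (fun h => ?_)
    (St_dvd _)
  · omega
  · refine no_small (cs := [1, 461, 16632, 10395, 30800, 311850, 166320, 166320, 69300, 362880, 2520, 2520]) rfl ?_ (by decide)
    intro p hp
    have hs := sgs
    simp only [Ws, List.zip_cons_cons, List.zip_nil_left, List.mem_cons, List.not_mem_nil, or_false, forall_eq_or_imp,
      forall_eq] at hp hs
    obtain ⟨h0, h1, h2, h3, h4, h5, h6, h7, h8, h9, h10, h11⟩ := hs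
    rcases hp with rfl | rfl | rfl | rfl | rfl | rfl | rfl | rfl | rfl | rfl | rfl | rfl
    · exact h0
    · exact h
    · exact h2
    · exact h3
    · exact h4
    · exact h5
    · exact h6
    · exact h7
    · exact h8
    · exact h9
    · exact h10
    · exact h11

theorem card_St2 : Nat.card (St W2) = 14400 := by
  have h := card_of (s := Nat.card (St W2)) (c := 16632) (by norm_num) (sgs (W2, 16632) (by simp [Ws])) (fun h => ?_)
    (St_dvd _)
  · omega
  · refine no_small (cs := [1, 462, 16631, 10395, 30800, 311850, 166320, 166320, 69300, 362880, 2520, 2520]) rfl ?_ (by decide)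
    intro p hp
    have hs := sgs
    simp only [Ws, List.zip_cons_cons, List.zip_nil_left, List.mem_cons, List.not_mem_nil, or_false, forall_eq_or_imp,
      forall_eq] at hp hs
    obtain ⟨h0, h1, h2, h3, h4, h5, h6, h7, h8, h9, h10, h11⟩ := hs
    rcases hp with rfl | rfl | rfl | rfl | rfl | rfl | rfl | rfl | rfl | rfl | rfl | rfl
    · exact h0
    · exact h1
    · exact h
    · exact h3
    · exact h4
    · exact h5
    · exact h6
    · exact h7
    · exact h8
    · exact h9
    · exact h10
    · exact h11

theorem card_St3 : Nat.card (St W3) = 23040 := by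
  have h := card_of (s := Nat.card (St W3)) (c := 10395) (by norm_num) (sgs (W3, 10395) (by simp [Ws])) (fun h => ?_)
    (St_dvd _)
  · omega
  · refine no_small (cs := [1, 462, 16632, 10394, 30800, 311850, 166320, 166320, 69300, 362880, 2520, 2520]) rfl ?_ (by decide)
    intro p hp
    have hs := sgs
    simp only [Ws, List.zip_cons_cons, List.zip_nil_left, List.mem_cons, List.not_mem_nil, or_false, forall_eq_or_imp,
      forall_eq] at hp hs
    obtain ⟨h0, h1, h2, h3, h4, h5, h6, h7, h8, h9, h10, h11⟩ := hs
    rcases hp with rfl | rfl | rfl | rfl | rfl | rfl | rfl | rfl | rfl | rfl | rfl | rfl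
    · exact h0
    · exact h1
    · exact h2
    · exact h
    · exact h4
    · exact h5
    · exact h6
    · exact h7
    · exact h8
    · exact h9
    · exact h10
    · exact h11

theorem card_St4 : Nat.card (St W4) = 7776 := by
  have h := card_of (s := Nat.card (St W4)) (c := 30800) (by norm_num) (sgs (W4, 30800) (by simp [Ws])) (fun h => ?_)
    (St_dvd _)
  · omega
  · refine no_small (cs := [1, 462, 16632, 10395, 30799, 311850, 166320, 166320, 69300, 362880, 2520, 2520]) rfl ?_ (by decide)
    intro p hp
    have hs := sgs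
    simp only [Ws, List.zip_cons_cons, List.zip_nil_left, List.mem_cons, List.not_mem_nil, or_false, forall_eq_or_imp,
      forall_eq] at hp hs
    obtain ⟨h0, h1, h2, h3, h4, h5, h6, h7, h8, h9, h10, h11⟩ := hs
    rcases hp with rfl | rfl | rfl | rfl | rfl | rfl | rfl | rfl | rfl | rfl | rfl | rfl
    · exact h0
    · exact h1
    · exact h2
    · exact h3
    · exact h
    · exact h5
    · exact h6
    · exact h7
    · exact h8
    · exact h9
    · exact h10
    · exact h11

theorem card_St5 : Nat.card (St W5) = 768 := by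
  have h := card_of (s := Nat.card (St W5)) (c := 311850) (by norm_num) (sgs (W5, 311850) (by simp [Ws])) (fun h => ?_)
    (St_dvd _)
  · omega
  · refine no_small (cs := [1, 462, 16632, 10395, 30800, 311849, 166320, 166320, 69300, 362880, 2520, 2520]) rfl ?_ (by decide)
    intro p hp
    have hs := sgs
    simp only [Ws, List.zip_cons_cons, List.zip_nil_left, List.mem_cons, List.not_mem_nil, or_false, forall_eq_or_imp,
      forall_eq] at hp hs
    obtain ⟨h0, h1, h2, h3, h4, h5, h6, h7, h8, h9, h10, h11⟩ := hs
    rcases hp with rfl | rfl | rfl | rfl | rfl | rfl | rfl | rfl | rfl | rfl | rfl | rfl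
    · exact h0
    · exact h1
    · exact h2
    · exact h3
    · exact h4
    · exact h
    · exact h6
    · exact h7
    · exact h8
    · exact h9
    · exact h10
    · exact h11

theorem card_St6 : Nat.card (St W6) = 1440 := by
  have h := card_of (s := Nat.card (St W6)) (c := 166320) (by norm_num) (sgs (W6, 166320) (by simp [Ws])) (fun h => ?_)
    (St_dvd _)
  · omega
  · refine no_small (cs := [1, 462, 16632, 10395, 30800, 311850, 166319, 166320, 69300, 362880, 2520, 2520]) rfl ?_ (by decide)
    intro p hp
    have hs := sgs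
    simp only [Ws, List.zip_cons_cons, List.zip_nil_left, List.mem_cons, List.not_mem_nil, or_false, forall_eq_or_imp,
      forall_eq] at hp hs
    obtain ⟨h0, h1, h2, h3, h4, h5, h6, h7, h8, h9, h10, h11⟩ := hs
    rcases hp with rfl | rfl | rfl | rfl | rfl | rfl | rfl | rfl | rfl | rfl | rfl | rfl
    · exact h0
    · exact h1
    · exact h2
    · exact h3
    · exact h4
    · exact h5
    · exact h
    · exact h7
    · exact h8
    · exact h9
    · exact h10
    · exact h11

theorem card_St7 : Nat.card (St W7) = 1440 := by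
  have h := card_of (s := Nat.card (St W7)) (c := 166320) (by norm_num) (sgs (W7, 166320) (by simp [Ws])) (fun h => ?_)
    (St_dvd _)
  · omega
  · refine no_small (cs := [1, 462, 16632, 10395, 30800, 311850, 166320, 166319, 69300, 362880, 2520, 2520]) rfl ?_ (by decide)
    intro p hp
    have hs := sgs
    simp only [Ws, List.zip_cons_cons, List.zip_nil_left, List.mem_cons, List.not_mem_nil, or_false, forall_eq_or_imp,
      forall_eq] at hp hs
    obtain ⟨h0, h1, h2, h3, h4, h5, h6, h7, h8, h9, h10, h11⟩ := hs
    rcases hp with rfl | rfl | rfl | rfl | rfl | rfl | rfl | rfl | rfl | rfl | rfl | rfl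
    · exact h0
    · exact h1
    · exact h2
    · exact h3
    · exact h4
    · exact h5
    · exact h6
    · exact h
    · exact h8
    · exact h9
    · exact h10
    · exact h11

theorem card_St8 : Nat.card (St W8) = 3456 := by
  have h := card_of (s := Nat.card (St W8)) (c := 69300) (by norm_num) (sgs (W8, 69300) (by simp [Ws])) (fun h => ?_)
    (St_dvd _)
  · omega
  · refine no_small (cs := [1, 462, 16632, 10395, 30800, 311850, 166320, 166320, 69299, 362880, 2520, 2520]) rfl ?_ (by decide)
    intro p hp
    have hs := sgs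
    simp only [Ws, List.zip_cons_cons, List.zip_nil_left, List.mem_cons, List.not_mem_nil, or_false, forall_eq_or_imp,
      forall_eq] at hp hs
    obtain ⟨h0, h1, h2, h3, h4, h5, h6, h7, h8, h9, h10, h11⟩ := hs
    rcases hp with rfl | rfl | rfl | rfl | rfl | rfl | rfl | rfl | rfl | rfl | rfl | rfl
    · exact h0
    · exact h1
    · exact h2
    · exact h3
    · exact h4
    · exact h5
    · exact h6
    · exact h7
    · exact h
    · exact h9
    · exact h10
    · exact h11

theorem card_St9 : Nat.card (St W9) = 660 := by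
  have h := card_of (s := Nat.card (St W9)) (c := 362880) (by norm_num) (sgs (W9, 362880) (by simp [Ws])) (fun h => ?_)
    (St_dvd _)
  · omega
  · refine no_small (cs := [1, 462, 16632, 10395, 30800, 311850, 166320, 166320, 69300, 362879, 2520, 2520]) rfl ?_ (by decide)
    intro p hp
    have hs := sgs
    simp only [Ws, List.zip_cons_cons, List.zip_nil_left, List.mem_cons, List.not_mem_nil, or_false, forall_eq_or_imp,
      forall_eq] at hp hs
    obtain ⟨h0, h1, h2, h3, h4, h5, h6, h7, h8, h9, h10, h11⟩ := hs
    rcases hp with rfl | rfl | rfl | rfl | rfl | rfl | rfl | rfl | rfl | rfl | rfl | rfl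
    · exact h0
    · exact h1
    · exact h2
    · exact h3
    · exact h4
    · exact h5
    · exact h6
    · exact h7
    · exact h8
    · exact h
    · exact h10
    · exact h11

theorem card_St10 : Nat.card (St W10) = 95040 := by
  have h := card_of (s := Nat.card (St W10)) (c := 2520) (by norm_num) (sgs (W10, 2520) (by simp [Ws])) (fun h => ?_)
    (St_dvd _)
  · omega
  · refine no_small (cs := [1, 462, 16632, 10395, 30800, 311850, 166320, 166320, 69300, 362880, 2519, 2520]) rfl ?_ (by decide)
    intro p hp
    have hs := sgs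
    simp only [Ws, List.zip_cons_cons, List.zip_nil_left, List.mem_cons, List.not_mem_nil, or_false, forall_eq_or_imp,
      forall_eq] at hp hs
    obtain ⟨h0, h1, h2, h3, h4, h5, h6, h7, h8, h9, h10, h11⟩ := hs
    rcases hp with rfl | rfl | rfl | rfl | rfl | rfl | rfl | rfl | rfl | rfl | rfl | rfl
    · exact h0
    · exact h1
    · exact h2
    · exact h3
    · exact h4
    · exact h5
    · exact h6
    · exact h7
    · exact h8
    · exact h9
    · exact h
    · exact h11

theorem card_St11 : Nat.card (St W11) = 95040 := by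
  have h := card_of (s := Nat.card (St W11)) (c := 2520) (by norm_num) (sgs (W11, 2520) (by simp [Ws])) (fun h => ?_)
    (St_dvd _)
  · omega
  · refine no_small (cs := [1, 462, 16632, 10395, 30800, 311850, 166320, 166320, 69300, 362880, 2520, 2519]) rfl ?_ (by decide)
    intro p hp
    have hs := sgs
    simp only [Ws, List.zip_cons_cons, List.zip_nil_left, List.mem_cons, List.not_mem_nil, or_false, forall_eq_or_imp,
      forall_eq] at hp hs
    obtain ⟨h0, h1, h2, h3, h4, h5, h6, h7, h8, h9, h10, h11⟩ := hs
    rcases hp with rfl | rfl | rfl | rfl | rfl | rfl | rfl | rfl | rfl | rfl | rfl | rfl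
    · exact h0
    · exact h1
    · exact h2
    · exact h3
    · exact h4
    · exact h5
    · exact h6
    · exact h7
    · exact h8
    · exact h9
    · exact h10
    · exact h

end Cfsg.Agent.HN
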